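import Cfsg.Agent.Invol.BaerSuzuki
import Cfsg.Agent.Cores.Basic
import Mathlib.NumberTheory.Basic
import Mathlib.RingTheory.Multiplicity

/-!
Involutions outside the `2`-core invert nontrivial elements of odd order.
-/

set_option autoImplicit false

namespace Cfsg.Agent.LAE62

variable {G : Type*} [Group G]

theorem eq_one_of_sq_eq_one_odd {h : G} (ho : Odd (orderOf h)) (h2 : h ^ 2 = 1) : h = 1 :=
  orderOf_eq_one_iff.1
    (Nat.eq_one_of_dvd_coprimes ho.coprime_two_right dvd_rfl (orderOf_dvd_of_pow_eq_one h2))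

theorem commute_of_odd_pow_two {h k : G} (ho : Odd (orderOf h)) {n : ℕ}
    (hc : Commute (h ^ 2 ^ n) k) : Commute h k := by
  obtain ⟨m, hm⟩ := exists_pow_eq_self_of_coprime (Nat.Coprime.pow_left n ho.coprime_two_left)
  rw [← hm]
  exact hc.pow_left m

theorem exists_odd_inverted [Finite G] {v : G} (hv2 : v * v = 1)
    (hv : v ∉ Cfsg.pCore 2 G) :
    ∃ h : G, h ≠ 1 ∧ Odd (orderOf h) ∧ v * h * v⁻¹ = h⁻¹ := by
  by_contra hno
  push Not at hno
  have hvi : v⁻¹ = v := inv_eq_of_mul_eq_one_right hv2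
  apply hv
  have hvp : IsPGroup 2 (Subgroup.zpowers v) := by
    intro x
    refine ⟨1, Subtype.ext ?_⟩
    obtain ⟨i, hi⟩ := x.2
    simp only [SubgroupClass.coe_pow, OneMemClass.coe_one, ← hi]
    rw [← zpow_natCast, ← zpow_mul, mul_comm, zpow_mul]
    norm_num [zpow_ofNat, pow_two, hv2]
  obtain ⟨N, hN, hN2, hXN⟩ := Invol.baer_suzuki (p := 2) (Subgroup.zpowers v) hvp fun g => by
    set z := v * (g * v * g⁻¹) with hz
    have hzi : v * z * v⁻¹ = z⁻¹ := by
      rw [hz]
      simp only [mul_inv_rev, inv_inv, hvi, mul_assoc]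
      simp [← mul_assoc v v, hv2]
    obtain ⟨a, m, hm, hord⟩ := Nat.exists_eq_two_pow_mul_odd (orderOf_pos z).ne'
    have hodd : Odd (orderOf (z ^ 2 ^ a)) := by
      refine Odd.of_dvd_nat hm (orderOf_dvd_of_pow_eq_one ?_)
      rw [← pow_mul, ← hord, pow_orderOf_eq_one]
    have hinvh : v * z ^ 2 ^ a * v⁻¹ = (z ^ 2 ^ a)⁻¹ := by
      rw [← MulAut.conj_apply, map_pow, MulAut.conj_apply, hzi, inv_pow]
    have hone : z ^ 2 ^ a = 1 := by
      by_contra h
      exact hno _ h hodd hinvh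
    have hzp : IsPGroup 2 (Subgroup.zpowers z) := by
      intro x
      refine ⟨a, Subtype.ext ?_⟩
      obtain ⟨i, hi⟩ := x.2
      simp only [SubgroupClass.coe_pow, OneMemClass.coe_one, ← hi]
      rw [← zpow_natCast, ← zpow_mul, mul_comm, zpow_mul, zpow_natCast, hone, one_zpow]
    have hnorm : Subgroup.zpowers v ≤ Subgroup.normalizer ((Subgroup.zpowers z : Subgroup G) : Set G) := by
      rw [Subgroup.zpowers_le, Subgroup.mem_normalizer_iff_map_conj_eq, MonoidHom.map_zpowers]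
      change Subgroup.zpowers (MulAut.conj v z) = _
      rw [MulAut.conj_apply, hzi, Subgroup.zpowers_inv]
    refine (hvp.to_sup_of_normal_right' hzp hnorm).to_le ?_
    refine sup_le le_sup_left ?_
    rintro _ ⟨y, hy, rfl⟩
    obtain ⟨i, rfl⟩ := hy
    refine (show MulAut.conj g (v ^ i) ∈ Subgroup.zpowers v ⊔ Subgroup.zpowers z from ?_)
    rw [map_zpow, MulAut.conj_apply]
    refine Subgroup.zpow_mem _ ?_ i
    rw [show g * v * g⁻¹ = v⁻¹ * z by simp [hz]]
    exact Subgroup.mul_mem _ (Subgroup.mem_sup_left (Subgroup.inv_mem _ (Subgroup.mem_zpowers v)))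
      (Subgroup.mem_sup_right (Subgroup.mem_zpowers z))
  exact Cores.le_pCore hN hN2 (hXN (Subgroup.mem_zpowers v))

end Cfsg.Agent.LAE62
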