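import Mathlib.GroupTheory.PGroup
import Mathlib.GroupTheory.QuotientGroup.Basic
import Mathlib.GroupTheory.Commutator.Basic
import Mathlib.Algebra.Group.Hom.Instances
import Mathlib.Algebra.Group.Subgroup.Finite
import Mathlib.Data.SetLike.Fintype

/-! Counting abelian complements in a class two group, and fixed points of `p`-groups on sets of subgroups. -/

open scoped commutatorElement

namespace Cfsg.Agent.LAE62

variable {G : Type*} [Group G]

theorem commutator_mul_left_of_central {W : Subgroup G} (hW : W ≤ Subgroup.center G)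
    (hcomm : ∀ a b : G, ⁅a, b⁆ ∈ W) (a b c : G) : ⁅a * b, c⁆ = ⁅a, c⁆ * ⁅b, c⁆ := by
  have h1 : ∀ d : G, Commute d ⁅b, c⁆ := fun d =>
    Subgroup.mem_center_iff.1 (hW (hcomm b c)) d
  calc ⁅a * b, c⁆ = a * ⁅b, c⁆ * a⁻¹ * ⁅a, c⁆ := by simp only [commutatorElement_def]; group
    _ = ⁅b, c⁆ * ⁅a, c⁆ := by rw [(h1 a).eq]; group
    _ = ⁅a, c⁆ * ⁅b, c⁆ := (h1 _).eq.symm

theorem commutator_mul_right_of_central {W : Subgroup G} (hW : W ≤ Subgroup.center G)
    (hcomm : ∀ a b : G, ⁅a, b⁆ ∈ W) (a b c : G) : ⁅a, b * c⁆ = ⁅a, b⁆ * ⁅a, c⁆ := by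
  have h1 : ∀ d : G, Commute d ⁅a, c⁆ := fun d =>
    Subgroup.mem_center_iff.1 (hW (hcomm a c)) d
  calc ⁅a, b * c⁆ = ⁅a, b⁆ * (b * ⁅a, c⁆ * b⁻¹) := by simp only [commutatorElement_def]; group
    _ = ⁅a, b⁆ * ⁅a, c⁆ := by rw [(h1 b).eq]; group

/-- In a group of class two, the abelian complements (modulo a central `W`) of an abelian `U` are as many as
the elements of a `p`-group; so if there are two, their number is divisible by `p`. -/
theorem prime_dvd_card_complements [Finite G] {p : ℕ} [Fact p.Prime] {U X₀ X₁ W : Subgroup G}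
    (hW : W ≤ Subgroup.center G) (hcomm : ∀ a b : G, ⁅a, b⁆ ∈ W)
    (hUp : IsPGroup p U) (hU : IsMulCommutative U)
    (h0 : IsMulCommutative X₀ ∧ X₀ ⊓ U = W ∧ X₀ ⊔ U = ⊤)
    (h1 : IsMulCommutative X₁ ∧ X₁ ⊓ U = W ∧ X₁ ⊔ U = ⊤) (hne : X₁ ≠ X₀) :
    p ∣ Nat.card {X : Subgroup G // IsMulCommutative X ∧ X ⊓ U = W ∧ X ⊔ U = ⊤} := by
  haveI : W.Normal := ⟨fun n hn g => by
    rw [Subgroup.mem_center_iff.1 (hW hn) g, mul_inv_cancel_right]; exact hn⟩
  let π := QuotientGroup.mk' W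
  have hπs : Function.Surjective π := QuotientGroup.mk'_surjective W
  letI : CommGroup (G ⧸ W) :=
    { (inferInstance : Group (G ⧸ W)) with
      mul_comm := fun a b => by
        obtain ⟨a, rfl⟩ := hπs a
        obtain ⟨b, rfl⟩ := hπs b
        rw [← commutatorElement_eq_one_iff_mul_comm, ← map_commutatorElement]
        exact (QuotientGroup.eq_one_iff _).2 (hcomm a b) }
  let Ub := U.map π
  let Xb := X₀.map π
  have hWU : W ≤ U := h0.2.1.ge.trans inf_le_right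
  have hback : ∀ (X : Subgroup G), W ≤ X → (X.map π).comap π = X := fun X hX => by
    rw [Subgroup.comap_map_eq, QuotientGroup.ker_mk', sup_eq_left.2 hX]
  have hcompl : ∀ X : Subgroup G, X ⊓ U = W → X ⊔ U = ⊤ → X.map π ⊓ Ub = ⊥ ∧ X.map π ⊔ Ub = ⊤ := by
    intro X hi hs
    refine ⟨eq_bot_iff.2 ?_, ?_⟩
    · rintro _ ⟨⟨x, hx, rfl⟩, ⟨u, hu, he⟩⟩
      refine (QuotientGroup.eq_one_iff x).2 (hi.le ⟨hx, ?_⟩)
      have : x ∈ (U.map π).comap π := ⟨u, hu, he⟩
      rwa [hback U hWU] at this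
    · rw [← Subgroup.map_sup, hs, Subgroup.map_top_of_surjective π hπs]
  obtain ⟨hi0, hs0⟩ := hcompl X₀ h0.2.1 h0.2.2
  -- commutators only depend on classes modulo `W`
  have hlift : ∀ a a' b b' : G, π a = π a' → π b = π b' → ⁅a, b⁆ = ⁅a', b'⁆ := by
    intro a a' b b' ha hb
    have key : ∀ w ∈ W, ∀ c : G, ⁅w, c⁆ = 1 ∧ ⁅c, w⁆ = 1 := fun w hw c =>
      ⟨commutatorElement_eq_one_iff_mul_comm.2 (Subgroup.mem_center_iff.1 (hW hw) c).symm,
       commutatorElement_eq_one_iff_mul_comm.2 (Subgroup.mem_center_iff.1 (hW hw) c)⟩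
    obtain ⟨w, hw, rfl⟩ := ((QuotientGroup.mk'_eq_mk' W).1 ha.symm)
    obtain ⟨v, hv, rfl⟩ := ((QuotientGroup.mk'_eq_mk' W).1 hb.symm)
    rw [commutator_mul_left_of_central hW hcomm, commutator_mul_right_of_central hW hcomm, (key w hw _).1,
      (key v hv _).2, mul_one, mul_one]
  let σ : G ⧸ W → G := Function.surjInv hπs
  have hσ : ∀ a, π (σ a) = a := Function.surjInv_eq hπs
  let β : G ⧸ W → G ⧸ W → G := fun a b => ⁅σ a, σ b⁆
  have hβl : ∀ a b c, β (a * b) c = β a c * β b c := fun a b c => by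
    show ⁅σ (a * b), σ c⁆ = _
    rw [hlift (σ (a * b)) (σ a * σ b) (σ c) (σ c) (by rw [map_mul, hσ, hσ, hσ]) rfl,
      commutator_mul_left_of_central hW hcomm]
  have hβr : ∀ a b c, β a (b * c) = β a b * β a c := fun a b c => by
    show ⁅σ a, σ (b * c)⁆ = _
    rw [hlift (σ a) (σ a) (σ (b * c)) (σ b * σ c) rfl (by rw [map_mul, hσ, hσ, hσ]),
      commutator_mul_right_of_central hW hcomm]
  have hβab : ∀ X : Subgroup G, IsMulCommutative X → ∀ a ∈ X.map π, ∀ b ∈ X.map π, β a b = 1 := by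
    rintro X hX _ ⟨a, ha, rfl⟩ _ ⟨b, hb, rfl⟩
    show ⁅σ (π a), σ (π b)⁆ = 1
    rw [hlift _ a _ b (hσ _) (hσ _), commutatorElement_eq_one_iff_mul_comm]
    exact congrArg Subtype.val (hX.is_comm.comm (⟨a, ha⟩ : X) (⟨b, hb⟩ : X))
  have hcen : ∀ a b (d : G), Commute d (β a b) := fun a b d => Subgroup.mem_center_iff.1 (hW (hcomm _ _)) d
  let S : Subgroup (Xb →* Ub) :=
    { carrier := {φ | ∀ x y : Xb, β (φ x : G ⧸ W) y * β (x : G ⧸ W) (φ y) = 1}
      one_mem' := fun x y => by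
        have e1 : β (1 : G ⧸ W) y = 1 := mul_eq_left.1 (by rw [← hβl, one_mul])
        have e2 : β (x : G ⧸ W) 1 = 1 := mul_eq_left.1 (by rw [← hβr, one_mul])
        simp [e1, e2]
      mul_mem' := fun {φ ψ} hφ hψ x y => by
        simp only [MonoidHom.mul_apply, Subgroup.coe_mul, hβl, hβr]
        calc β (φ x : G ⧸ W) y * β (ψ x : G ⧸ W) y * (β (x : G ⧸ W) (φ y) * β (x : G ⧸ W) (ψ y))
            = β (φ x : G ⧸ W) y * ((β (ψ x : G ⧸ W) y * β (x : G ⧸ W) (φ y)) * β (x : G ⧸ W) (ψ y)) := by group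
          _ = (β (φ x : G ⧸ W) y * β (x : G ⧸ W) (φ y)) * (β (ψ x : G ⧸ W) y * β (x : G ⧸ W) (ψ y)) := by
              rw [(hcen (x : G ⧸ W) (φ y) (β (ψ x : G ⧸ W) y)).eq]; group
          _ = 1 := by rw [hφ x y, hψ x y, one_mul]
      inv_mem' := fun {φ} hφ x y => by
        have e1 : β ((φ x : G ⧸ W)⁻¹) y = (β (φ x : G ⧸ W) y)⁻¹ := by
          refine eq_inv_of_mul_eq_one_left ?_
          rw [← hβl, inv_mul_cancel]
          exact mul_eq_left.1 (by rw [← hβl, one_mul])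
        have e2 : β (x : G ⧸ W) ((φ y : G ⧸ W)⁻¹) = (β (x : G ⧸ W) (φ y))⁻¹ := by
          refine eq_inv_of_mul_eq_one_left ?_
          rw [← hβr, inv_mul_cancel]
          exact mul_eq_left.1 (by rw [← hβr, one_mul])
        simp only [MonoidHom.inv_apply, Subgroup.coe_inv, e1, e2]
        rw [← mul_inv_rev, ← (hcen (x : G ⧸ W) (φ y) (β (φ x : G ⧸ W) y)).eq, hφ x y, inv_one] }
  let Γ : (Xb →* Ub) → Subgroup G := fun φ =>
    ((Xb.subtype * Ub.subtype.comp φ : Xb →* G ⧸ W).range).comap π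
  have hsplit : ∀ {a a' b b' : G ⧸ W}, a ∈ Xb → a' ∈ Xb → b ∈ Ub → b' ∈ Ub → a * b = a' * b' → a = a' ∧ b = b' := by
    intro a a' b b' ha ha' hb hb' h
    have : a'⁻¹ * a = b' * b⁻¹ := by rw [eq_mul_inv_iff_mul_eq, mul_assoc, h, inv_mul_cancel_left]
    have h2 : a'⁻¹ * a ∈ Xb ⊓ Ub :=
      ⟨Xb.mul_mem (Xb.inv_mem ha') ha, this ▸ Ub.mul_mem hb' (Ub.inv_mem hb)⟩
    rw [hi0, Subgroup.mem_bot, inv_mul_eq_one] at h2
    subst h2
    exact ⟨rfl, mul_left_cancel h⟩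
  have hdec : ∀ a : G ⧸ W, ∃ x : Xb, ∃ u : Ub, (x : G ⧸ W) * u = a := by
    intro a
    obtain ⟨x, hx, u, hu, he⟩ := Subgroup.mem_sup.1 (hs0 ▸ Subgroup.mem_top a)
    exact ⟨⟨x, hx⟩, ⟨u, hu⟩, he⟩
  have hΓ : ∀ φ ∈ S, IsMulCommutative (Γ φ) ∧ Γ φ ⊓ U = W ∧ Γ φ ⊔ U = ⊤ := by
    intro φ hφ
    refine ⟨⟨⟨fun a b => Subtype.ext ?_⟩⟩, le_antisymm ?_ (le_inf ?_ hWU), eq_top_iff.2 ?_⟩
    · obtain ⟨x, hx⟩ := a.2
      obtain ⟨y, hy⟩ := b.2
      show (a : G) * b = b * a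
      rw [← commutatorElement_eq_one_iff_mul_comm, ← hlift (σ (π a)) a (σ (π b)) b (hσ _) (hσ _), ← hx, ← hy]
      show β ((x : G ⧸ W) * φ x) ((y : G ⧸ W) * φ y) = 1
      rw [hβl, hβr, hβr, hβab X₀ h0.1 _ x.2 _ y.2, hβab U hU _ (φ x).2 _ (φ y).2, one_mul, mul_one,
        (hcen (φ x : G ⧸ W) y (β (x : G ⧸ W) (φ y))).eq]
      exact hφ x y
    · rintro a ⟨⟨x, hx⟩, haU⟩
      have h2 := hsplit x.2 (one_mem _) (φ x).2 (show π a ∈ Ub from ⟨a, haU, rfl⟩)
        (by rw [one_mul]; exact hx)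
      have hx1 : x = 1 := Subtype.ext h2.1
      subst hx1
      rw [map_one] at hx
      exact (QuotientGroup.eq_one_iff a).1 hx.symm
    · intro w hw
      exact ⟨1, by rw [map_one]; exact ((QuotientGroup.eq_one_iff w).2 hw).symm⟩
    · intro a _
      obtain ⟨x, u, he⟩ := hdec (π a)
      obtain ⟨c, hc⟩ := hπs ((x : G ⧸ W) * φ x)
      obtain ⟨v, hv, hve⟩ := ((φ x)⁻¹ * u).2
      have : π a = π (c * v) := by
        rw [map_mul, hc, hve, ← he, Subgroup.coe_mul, Subgroup.coe_inv, mul_assoc, mul_inv_cancel_left]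
      obtain ⟨w, hw, rfl⟩ := (QuotientGroup.mk'_eq_mk' W).1 this.symm
      exact Subgroup.mul_mem _ (Subgroup.mul_mem_sup (show c ∈ Γ φ from ⟨x, hc.symm⟩) hv)
        (Subgroup.mem_sup_right (hWU hw))
  let Ψ : S → {X : Subgroup G // IsMulCommutative X ∧ X ⊓ U = W ∧ X ⊔ U = ⊤} := fun φ => ⟨Γ φ, hΓ φ φ.2⟩
  have hΨ : Function.Bijective Ψ := by
    constructor
    · intro φ ψ h
      have h' : Γ φ = Γ ψ := congrArg Subtype.val h
      apply Subtype.ext
      ext x : 1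
      obtain ⟨c, hc⟩ := hπs ((x : G ⧸ W) * φ.1 x)
      have hc' : c ∈ Γ ψ := h' ▸ (show c ∈ Γ φ from ⟨x, hc.symm⟩)
      obtain ⟨y, hy⟩ := hc'
      obtain ⟨e1, e2⟩ := hsplit y.2 x.2 (ψ.1 y).2 (φ.1 x).2 (hy.trans hc)
      rw [Subtype.ext e1] at e2
      exact Subtype.ext e2.symm
    · rintro ⟨X, hX⟩
      obtain ⟨hi, hs⟩ := hcompl X hX.2.1 hX.2.2
      have huniq : ∀ x : Xb, ∀ u u' : Ub, (x : G ⧸ W) * u ∈ X.map π → (x : G ⧸ W) * u' ∈ X.map π → u = u' := by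
        intro x u u' h1 h2
        apply Subtype.ext
        have h : (u : G ⧸ W)⁻¹ * u' ∈ X.map π ⊓ Ub := by
          refine ⟨?_, Ub.mul_mem (Ub.inv_mem u.2) u'.2⟩
          have := mul_mem (inv_mem h1) h2
          rwa [mul_inv_rev, mul_assoc, inv_mul_cancel_left] at this
        rw [hi, Subgroup.mem_bot, inv_mul_eq_one] at h
        exact h
      have hex : ∀ x : Xb, ∃ u : Ub, (x : G ⧸ W) * u ∈ X.map π := by
        intro x
        obtain ⟨z, hz, u, hu, he⟩ := Subgroup.mem_sup.1 (hs ▸ Subgroup.mem_top (x : G ⧸ W))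
        refine ⟨⟨u⁻¹, Ub.inv_mem hu⟩, ?_⟩
        show (x : G ⧸ W) * u⁻¹ ∈ _
        rw [← he, mul_inv_cancel_right]; exact hz
      choose f hf using hex
      let φ : Xb →* Ub :=
        { toFun := f
          map_one' := huniq 1 _ _ (hf 1) (by simp)
          map_mul' := fun x y => huniq (x * y) _ _ (hf _) (by
            have := mul_mem (hf x) (hf y)
            rw [Subgroup.coe_mul, Subgroup.coe_mul]
            rwa [mul_mul_mul_comm] at this) }
      have hφS : φ ∈ S := by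
        intro x y
        have h : β ((x : G ⧸ W) * φ x) ((y : G ⧸ W) * φ y) = 1 := hβab X hX.1 _ (hf x) _ (hf y)
        rw [hβl, hβr, hβr, hβab X₀ h0.1 _ x.2 _ y.2, hβab U hU _ (φ x).2 _ (φ y).2, one_mul, mul_one,
          (hcen (φ x : G ⧸ W) y (β (x : G ⧸ W) (φ y))).eq] at h
        exact h
      refine ⟨⟨φ, hφS⟩, Subtype.ext ?_⟩
      have hXb : X = (X.map π).comap π := (hback X (hX.2.1.ge.trans inf_le_left)).symm
      show Γ φ = X
      refine le_antisymm (fun a ⟨x, hx⟩ => hXb ▸ (show π a ∈ X.map π from hx ▸ hf x)) fun a ha => ?_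
      obtain ⟨x, u, he⟩ := hdec (π a)
      have : u = f x := huniq x u (f x) (he ▸ ⟨a, ha, rfl⟩) (hf x)
      exact ⟨x, by rw [← he, this]; rfl⟩
  rw [← Nat.card_eq_of_bijective Ψ hΨ]
  have hUb : IsPGroup p Ub := hUp.map π
  haveI : Finite (Xb →* Ub) := Finite.of_injective (fun φ => (φ : Xb → Ub)) DFunLike.coe_injective
  have hS : IsPGroup p S := by
    intro φ
    obtain ⟨n, hn⟩ := IsPGroup.iff_card.1 hUb
    refine ⟨n, Subtype.ext (MonoidHom.ext fun x => ?_)⟩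
    show ((φ : Xb →* Ub) ^ p ^ n) x = 1
    rw [MonoidHom.pow_apply, ← hn]
    exact pow_card_eq_one'
  haveI : Nontrivial S := by
    obtain ⟨a, ha⟩ := hΨ.2 ⟨X₀, h0⟩
    obtain ⟨b, hb⟩ := hΨ.2 ⟨X₁, h1⟩
    exact ⟨a, b, fun e => hne (congrArg Subtype.val (hb.symm.trans ((congrArg Ψ e.symm).trans ha)))⟩
  obtain ⟨n, hn⟩ := IsPGroup.iff_card.1 hS
  rcases Nat.eq_zero_or_pos n with rfl | hn0
  · exact absurd hn (ne_of_gt (by simpa using Finite.one_lt_card (α := S)))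
  · exact hn ▸ dvd_pow_self p hn0.ne'

theorem conj_map_mul (g h : G) (X : Subgroup G) :
    (X.map (MulAut.conj h).toMonoidHom).map (MulAut.conj g).toMonoidHom = X.map (MulAut.conj (g * h)).toMonoidHom := by
  rw [Subgroup.map_map]; congr 1; ext a; simp [mul_assoc]

/-- A `p`-group permuting a set of subgroups by conjugation: the fixed ones have the same number modulo `p`. -/
theorem card_modEq_card_normalized [Finite G] {p : ℕ} [Fact p.Prime] {H : Subgroup G} (hH : IsPGroup p H)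
    (P : Subgroup G → Prop) (hP : ∀ g ∈ H, ∀ X, P X → P (X.map (MulAut.conj g).toMonoidHom)) :
    Nat.card {X // P X} ≡ Nat.card {X // P X ∧ H ≤ Subgroup.normalizer (X : Set G)} [MOD p] := by
  letI : MulAction H {X : Subgroup G // P X} :=
    { smul := fun g X => ⟨X.1.map (MulAut.conj (g : G)).toMonoidHom, hP g g.2 X.1 X.2⟩
      one_smul := fun X => Subtype.ext (by
        show X.1.map (MulAut.conj ((1 : H) : G)).toMonoidHom = X.1
        rw [Subgroup.coe_one, map_one]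
        exact Subgroup.map_id _)
      mul_smul := fun g h X => Subtype.ext (conj_map_mul (g : G) h X.1).symm }
  haveI : Finite {X : Subgroup G // P X} := Subtype.finite
  refine (hH.card_modEq_card_fixedPoints {X : Subgroup G // P X}).trans (congrArg (· % p) (Nat.card_congr ?_))
  exact
    { toFun := fun X => ⟨X.1.1, X.1.2, fun g hg => Subgroup.mem_normalizer_iff_map_conj_eq.2
        (congrArg Subtype.val (X.2 ⟨g, hg⟩))⟩
      invFun := fun X => ⟨⟨X.1, X.2.1⟩, fun g => Subtype.ext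
        (Subgroup.mem_normalizer_iff_map_conj_eq.1 (X.2.2 g.2))⟩
      left_inv := fun _ => rfl
      right_inv := fun _ => rfl }

end Cfsg.Agent.LAE62
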