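import Mathlib.GroupTheory.Sylow
import Mathlib.GroupTheory.Nilpotent
import Mathlib.GroupTheory.Transfer
import Mathlib.NumberTheory.Basic
import Mathlib.RingTheory.Coprime.Lemmas
import Mathlib.RingTheory.Int.Basic
import Mathlib.Tactic.LinearCombination
import Mathlib.GroupTheory.SpecificGroups.Cyclic
import Cfsg.Prelude.Def_IsolatedElements

/-! Basic facts on isolated `p`-elements. -/

namespace Cfsg.Agent.LAE62

variable {G : Type*} [Group G] {p : ℕ} {x : G}

theorem isIsolated_restrict (hiso : Cfsg.IsIsolated x) (H : Subgroup G) (hx : x ∈ H) :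
    Cfsg.IsIsolated (⟨x, hx⟩ : H) := by
  intro g hg
  refine Subtype.ext ?_
  exact hiso g (by simpa using hg.map H.subtype)

theorem mem_centralizer_singleton' {x g : G} :
    g ∈ Subgroup.centralizer ({x} : Set G) ↔ x * g = g * x :=
  Subgroup.mem_centralizer_singleton_iff.trans ⟨Eq.symm, Eq.symm⟩

theorem conj_eq_self_iff {x g : G} : g * x * g⁻¹ = x ↔ g ∈ Subgroup.centralizer ({x} : Set G) := by
  rw [mem_centralizer_singleton', mul_inv_eq_iff_eq_mul]
  exact ⟨Eq.symm, Eq.symm⟩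

theorem isolated_mem_center [Finite G] [Fact p.Prime] (hG : IsPGroup p G) (hiso : Cfsg.IsIsolated x) :
    x ∈ Subgroup.center G := by
  have := hG.isNilpotent
  have hC : Subgroup.centralizer ({x} : Set G) = ⊤ := by
    refine normalizerCondition_iff_only_full_group_self_normalizing.1
      (Group.normalizerCondition_of_isNilpotent (G := G)) _ ?_
    refine le_antisymm ?_ Subgroup.le_normalizer
    intro g hg
    rw [← conj_eq_self_iff]
    refine hiso g ?_
    have h1 : x ∈ Subgroup.centralizer ({x} : Set G) := Subgroup.mem_centralizer_singleton_iff.2 rfl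
    have := (Subgroup.mem_normalizer_iff.1 hg x).1 h1
    exact (Subgroup.mem_centralizer_singleton_iff.1 this).symm
  rw [Subgroup.mem_center_iff]
  intro g
  have : g ∈ Subgroup.centralizer ({x} : Set G) := hC ▸ Subgroup.mem_top g
  exact (mem_centralizer_singleton'.1 this).symm

theorem isolated_commute_of_mem_pGroup [Finite G] [Fact p.Prime] (hiso : Cfsg.IsIsolated x)
    {R : Subgroup G} (hR : IsPGroup p R) (hxR : x ∈ R) {r : G} (hr : r ∈ R) : Commute x r := by
  have h := isolated_mem_center hR (isIsolated_restrict hiso R hxR)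
  exact (congrArg Subtype.val (Subgroup.mem_center_iff.1 h ⟨r, hr⟩)).symm

theorem isPGroup_zpowers_of_orderOf {G : Type*} [Group G] {p : ℕ} {x : G}
    (hx : ∃ k : ℕ, orderOf x = p ^ k) : IsPGroup p (Subgroup.zpowers x) := by
  obtain ⟨k, hk⟩ := hx
  exact IsPGroup.of_card (n := k) (by rw [Nat.card_zpowers, hk])

theorem isPGroup_zpowers_conj (hx : ∃ k : ℕ, orderOf x = p ^ k) (g : G) :
    IsPGroup p (Subgroup.zpowers (g * x * g⁻¹)) := by
  refine isPGroup_zpowers_of_orderOf ?_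
  obtain ⟨k, hk⟩ := hx
  refine ⟨k, ?_⟩
  rw [← hk]
  exact (MulAut.conj g).orderOf_eq x

theorem isolated_conj_in_subgroup [Finite G] [Fact p.Prime] (hx : ∃ k : ℕ, orderOf x = p ^ k)
    (hiso : Cfsg.IsIsolated x) (H : Subgroup G) (hxH : x ∈ H) {g : G} (hgH : g * x * g⁻¹ ∈ H) :
    ∃ h ∈ H, h * g ∈ Subgroup.centralizer ({x} : Set G) := by
  have key : ∀ (y : G), y ∈ H → IsPGroup p (Subgroup.zpowers y) →
      ∃ Q : Sylow p H, ∃ hy : y ∈ H, (⟨y, hy⟩ : H) ∈ Q := by
    intro y hy hp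
    have : IsPGroup p (Subgroup.zpowers (⟨y, hy⟩ : H)) := by
      intro a
      obtain ⟨n, hn⟩ := Subgroup.mem_zpowers_iff.1 a.2
      obtain ⟨k, hk⟩ := hp ⟨y ^ n, Subgroup.zpow_mem _ (Subgroup.mem_zpowers y) n⟩
      refine ⟨k, ?_⟩
      apply Subtype.ext
      apply Subtype.ext
      have h := congrArg Subtype.val hk
      simp only [SubmonoidClass.coe_pow, OneMemClass.coe_one] at h ⊢
      rw [← hn]
      simpa using h
    obtain ⟨Q, hQ⟩ := this.exists_le_sylow
    exact ⟨Q, hy, hQ (Subgroup.mem_zpowers _)⟩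
  obtain ⟨Q, hx1, hQ⟩ := key x hxH (isPGroup_zpowers_of_orderOf hx)
  obtain ⟨R, hy1, hR⟩ := key _ hgH (isPGroup_zpowers_conj hx g)
  obtain ⟨h, hh⟩ := MulAction.exists_smul_eq H R Q
  refine ⟨h, h.2, ?_⟩
  have hz : h * ⟨g * x * g⁻¹, hy1⟩ * h⁻¹ ∈ (Q : Subgroup H) := by
    rw [← hh]
    exact Subgroup.smul_mem_pointwise_smul _ (MulAut.conj h) _ hR
  have hc := isolated_commute_of_mem_pGroup (isIsolated_restrict hiso H hx1) Q.2 hQ hz
  have hc' := hc.map H.subtype
  rw [← conj_eq_self_iff]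
  refine hiso _ ?_
  simpa [mul_assoc, mul_inv_rev] using hc'

theorem isolated_conj_eq_of_mem_pGroup [Finite G] [Fact p.Prime] (hiso : Cfsg.IsIsolated x)
    {R : Subgroup G} (hR : IsPGroup p R) (hxR : x ∈ R) {g : G} (hg : g * x * g⁻¹ ∈ R) :
    g * x * g⁻¹ = x :=
  hiso g (isolated_commute_of_mem_pGroup hiso hR hxR hg)

theorem isolated_normalizer_le_centralizer [Finite G] [Fact p.Prime] (hiso : Cfsg.IsIsolated x)
    {R : Subgroup G} (hR : IsPGroup p R) (hxR : x ∈ R) :
    Subgroup.normalizer (R : Set G) ≤ Subgroup.centralizer ({x} : Set G) := fun g hg =>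
  conj_eq_self_iff.1
    (isolated_conj_eq_of_mem_pGroup hiso hR hxR ((Subgroup.mem_normalizer_iff.1 hg x).1 hxR))

theorem isolated_frattini [Finite G] [Fact p.Prime] (hx : ∃ k : ℕ, orderOf x = p ^ k)
    (hiso : Cfsg.IsIsolated x) (H N : Subgroup G) (hNH : N ≤ H)
    (hN : H ≤ Subgroup.normalizer (N : Set G)) (hxN : x ∈ N) :
    N ⊔ (H ⊓ Subgroup.centralizer ({x} : Set G)) = H := by
  refine le_antisymm (sup_le hNH inf_le_left) fun h hh => ?_
  obtain ⟨n, hn, hnh⟩ := isolated_conj_in_subgroup hx hiso N hxN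
    ((Subgroup.mem_normalizer_iff.1 (hN hh) x).1 hxN)
  have : h = n⁻¹ * (n * h) := by group
  rw [this]
  exact Subgroup.mul_mem_sup (inv_mem hn) ⟨mul_mem (hNH hn) hh, hnh⟩

theorem isolated_quotient [Finite G] [Fact p.Prime] (hx : ∃ k : ℕ, orderOf x = p ^ k)
    (hiso : Cfsg.IsIsolated x) (N : Subgroup G) [N.Normal] :
    Cfsg.IsIsolated (QuotientGroup.mk x : G ⧸ N) := by
  intro gb
  induction gb using QuotientGroup.induction_on with
  | H g =>
    intro hc
    let H : Subgroup G :=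
      (Subgroup.centralizer ({(QuotientGroup.mk x : G ⧸ N)} : Set (G ⧸ N))).comap (QuotientGroup.mk' N)
    have hxH : x ∈ H := Subgroup.mem_centralizer_singleton_iff.2 rfl
    have hgH : g * x * g⁻¹ ∈ H := by
      refine Subgroup.mem_centralizer_singleton_iff.2 ?_
      simpa using hc.symm.eq
    obtain ⟨h, hh, hhg⟩ := isolated_conj_in_subgroup hx hiso H hxH hgH
    have h1 : (QuotientGroup.mk' N h) * QuotientGroup.mk' N x * (QuotientGroup.mk' N h)⁻¹ =
        QuotientGroup.mk' N x := conj_eq_self_iff.2 hh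
    have h2 := congrArg (QuotientGroup.mk' N) (conj_eq_self_iff.2 hhg)
    simp only [map_mul, map_inv, mul_inv_rev] at h2
    simp only [QuotientGroup.mk'_apply] at h1 h2
    calc (g : G ⧸ N) * x * (g : G ⧸ N)⁻¹
        = (h : G ⧸ N)⁻¹ * ((h : G ⧸ N) * g * x * ((g : G ⧸ N)⁻¹ * (h : G ⧸ N)⁻¹)) * h := by group
      _ = (h : G ⧸ N)⁻¹ * x * h := by rw [h2]
      _ = (h : G ⧸ N)⁻¹ * ((h : G ⧸ N) * x * (h : G ⧸ N)⁻¹) * h := by rw [h1]
      _ = x := by group

end Cfsg.Agent.LAE62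

namespace Cfsg.Agent.LAE62

variable {G : Type*} [Group G] {p : ℕ} {x : G}

/-- A normalizer of a cyclic Sylow subgroup that fixes a nontrivial element of it centralizes it. -/
theorem normalizer_le_centralizer_of_cyclic_sylow [Finite G] [Fact p.Prime] (P : Sylow p G)
    [IsCyclic (P : Subgroup G)] (hx1 : x ≠ 1) (hxP : x ∈ (P : Subgroup G))
    (hfix : Subgroup.normalizer ((P : Subgroup G) : Set G) ≤ Subgroup.centralizer ({x} : Set G)) :
    Subgroup.normalizer ((P : Subgroup G) : Set G) ≤ Subgroup.centralizer ((P : Subgroup G) : Set G) := by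
  intro g hg
  have hp : p.Prime := Fact.out
  obtain ⟨u, hu⟩ := IsCyclic.exists_generator (α := (P : Subgroup G))
  obtain ⟨a, ha⟩ := P.2 u
  have hord : orderOf (u : G) ∣ p ^ a :=
    orderOf_dvd_of_pow_eq_one (by simpa using congrArg Subtype.val ha)
  have hgen : ∀ y ∈ (P : Subgroup G), ∃ k : ℤ, y = (u : G) ^ k := by
    intro y hy
    obtain ⟨k, hk⟩ := Subgroup.mem_zpowers_iff.1 (hu ⟨y, hy⟩)
    exact ⟨k, by simpa using (congrArg Subtype.val hk).symm⟩
  obtain ⟨k, hk⟩ := hgen _ ((Subgroup.mem_normalizer_iff.1 hg u).1 u.2)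
  obtain ⟨m, rfl⟩ := hgen x hxP
  have hiter : ∀ i : ℕ, g ^ i * (u : G) * (g ^ i)⁻¹ = (u : G) ^ (k ^ i : ℤ) := by
    intro i
    induction i with
    | zero => simp
    | succ i ih =>
      calc g ^ (i + 1) * (u : G) * (g ^ (i + 1))⁻¹ = g ^ i * (g * u * g⁻¹) * (g ^ i)⁻¹ := by group
        _ = MulAut.conj (g ^ i) ((u : G) ^ k) := by rw [hk]; rfl
        _ = (MulAut.conj (g ^ i) (u : G)) ^ k := map_zpow _ _ _
        _ = ((u : G) ^ (k ^ i : ℤ)) ^ k := by rw [MulAut.conj_apply, ih]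
        _ = (u : G) ^ (k ^ (i + 1) : ℤ) := by rw [← zpow_mul, ← pow_succ]
  -- `k ≡ 1 mod p` since the nontrivial power `u ^ m` is fixed
  have hk1 : (p : ℤ) ∣ k - 1 := by
    by_contra hnd
    have h1 : ((u : G) ^ m) ^ k = (u : G) ^ m := by
      have := LAE62.conj_eq_self_iff.2 (hfix hg)
      rw [← MulAut.conj_apply, map_zpow, MulAut.conj_apply, hk, ← zpow_mul, mul_comm, zpow_mul] at this
      exact this
    have h2 : ((u : G) ^ m) ^ (k - 1) = 1 := by rw [zpow_sub, h1, zpow_one, mul_inv_cancel]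
    have h3 : ((u : G) ^ m) ^ ((p : ℤ) ^ a) = 1 := by
      rw [← zpow_mul, mul_comm, zpow_mul, ← Int.natCast_pow, zpow_natCast,
        orderOf_dvd_iff_pow_eq_one.1 hord, one_zpow]
    have hco : IsCoprime (k - 1) ((p : ℤ) ^ a) :=
      (((Int.prime_iff_natAbs_prime.2 (by simpa using hp) : Prime (p : ℤ)).irreducible.coprime_iff_not_dvd).2 hnd).symm.pow_right
    obtain ⟨s, t, hst⟩ := hco
    apply hx1
    have : ((u : G) ^ m) ^ (s * (k - 1) + t * (p : ℤ) ^ a) = 1 := by
      rw [zpow_add, mul_comm s, mul_comm t, zpow_mul, zpow_mul, h2, h3, one_zpow, one_zpow, one_mul]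
    rwa [hst, zpow_one] at this
  -- so a `p`-power of `g` centralises `P`
  have hA : g ^ p ^ a * (u : G) * (g ^ p ^ a)⁻¹ = u := by
    rw [hiter]
    have hd : (p : ℤ) ^ (a + 1) ∣ k ^ p ^ a - 1 ^ p ^ a := dvd_sub_pow_of_dvd_sub hk1 a
    rw [one_pow] at hd
    obtain ⟨t, ht⟩ := hd
    rw [show k ^ p ^ a = ((p ^ a : ℕ) : ℤ) * ((p : ℤ) * t) + 1 by push_cast; linear_combination ht,
      zpow_add, zpow_mul, zpow_natCast, orderOf_dvd_iff_pow_eq_one.1 hord, one_zpow, one_mul, zpow_one]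
  -- and a power prime to `p` does
  let C : Subgroup G := Subgroup.centralizer ({(u : G)} : Set G) ⊓ Subgroup.normalizer ((P : Subgroup G) : Set G)
  have hPC : (P : Subgroup G) ≤ C := fun y hy => by
    obtain ⟨i, rfl⟩ := hgen y hy
    exact ⟨Subgroup.mem_centralizer_singleton_iff.2 ((Commute.refl (u : G)).zpow_left i).eq,
      Subgroup.le_normalizer hy⟩
  let N := Subgroup.normalizer ((P : Subgroup G) : Set G)
  let C' : Subgroup N := C.subgroupOf N
  haveI : C'.Normal := by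
    constructor
    rintro ⟨c, hc⟩ hcC ⟨n, hn⟩
    obtain ⟨i, hi⟩ := hgen _ ((Subgroup.mem_normalizer_iff.1 (N.inv_mem hn) u).1 u.2)
    refine ⟨?_, N.mul_mem (N.mul_mem hn hc) (N.inv_mem hn)⟩
    rw [inv_inv] at hi
    have h0 : Commute c ((u : G) ^ i) :=
      (show Commute c (u : G) from Subgroup.mem_centralizer_singleton_iff.1 hcC.1).zpow_right i
    rw [← hi] at h0
    have := h0.map (MulAut.conj n).toMonoidHom
    refine Subgroup.mem_centralizer_singleton_iff.2 ?_
    simpa [mul_assoc] using this.eq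
  have hnd : ¬ p ∣ C'.index := by
    intro h
    refine P.not_dvd_index (h.trans ?_)
    have e := Subgroup.relIndex_mul_index (H := C) (K := N) inf_le_right
    exact (dvd_mul_right _ _).trans (e ▸ Subgroup.index_dvd_of_le hPC)
  have hB : (⟨g, hg⟩ : N) ^ C'.index ∈ C' := Subgroup.pow_index_mem _ _
  have hA' : (⟨g, hg⟩ : N) ^ p ^ a ∈ C' :=
    ⟨LAE62.conj_eq_self_iff.1 hA, Subgroup.pow_mem _ hg _⟩
  have hgC : g ∈ C := by
    have hco : Nat.Coprime (p ^ a) C'.index := (hp.coprime_iff_not_dvd.2 hnd).pow_left a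
    have := Subgroup.mul_mem _ (Subgroup.zpow_mem _ hA' (Nat.gcdA (p ^ a) C'.index))
      (Subgroup.zpow_mem _ hB (Nat.gcdB (p ^ a) C'.index))
    rw [← zpow_natCast, ← zpow_natCast, ← zpow_mul, ← zpow_mul, ← zpow_add, ← Nat.gcd_eq_gcd_ab,
      hco.gcd_eq_one, Nat.cast_one, zpow_one] at this
    exact this
  intro y hy
  obtain ⟨i, rfl⟩ := hgen y hy
  exact ((show Commute g (u : G) from Subgroup.mem_centralizer_singleton_iff.1 hgC.1).zpow_right i).eq.symm

end Cfsg.Agent.LAE62
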