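import Cfsg.Agent.LAE62.SL2Image
import Mathlib.Algebra.CharP.Two

/-!
Irreducible `SL(2, q)`-modules in the defining characteristic that are quadratic, or whose fixed points
of a Sylow subgroup have at least half the dimension, are natural.
-/

set_option autoImplicit false

open Matrix

namespace Cfsg.Agent.LAE62

variable {F : Type*} [Field F]

/-- The monomial element. -/
def wU (x : F) : Matrix.SpecialLinearGroup (Fin 2) F := upU x * loU (-x⁻¹) * upU x

/-- The diagonal element. -/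
def hU (x : F) : Matrix.SpecialLinearGroup (Fin 2) F := wU x * (wU 1)⁻¹

theorem wU_coe {x : F} (hx : x ≠ 0) :
    (wU x : Matrix (Fin 2) (Fin 2) F) = !![0, x; -x⁻¹, 0] := by
  rw [wU, Matrix.SpecialLinearGroup.coe_mul, Matrix.SpecialLinearGroup.coe_mul]
  ext i j
  fin_cases i <;> fin_cases j <;>
    simp [upU_coe, loU_coe, Matrix.mul_apply, Fin.sum_univ_two, hx]

theorem wU_inv_coe {x : F} (hx : x ≠ 0) :
    (((wU x)⁻¹ : Matrix.SpecialLinearGroup (Fin 2) F) : Matrix (Fin 2) (Fin 2) F) = !![0, -x; x⁻¹, 0] := by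
  rw [Matrix.SpecialLinearGroup.coe_inv, wU_coe hx, Matrix.adjugate_fin_two]
  simp

theorem hU_coe {x : F} (hx : x ≠ 0) :
    (hU x : Matrix (Fin 2) (Fin 2) F) = !![x, 0; 0, x⁻¹] := by
  rw [hU, Matrix.SpecialLinearGroup.coe_mul, wU_coe hx, wU_inv_coe one_ne_zero]
  ext i j
  fin_cases i <;> fin_cases j <;> simp [Matrix.mul_apply, Fin.sum_univ_two]

theorem wU_alt {x : F} (hx : x ≠ 0) : loU (-x⁻¹) * upU x * loU (-x⁻¹) = wU x := by
  apply Subtype.ext
  rw [Matrix.SpecialLinearGroup.coe_mul, Matrix.SpecialLinearGroup.coe_mul, wU_coe hx]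
  ext i j
  fin_cases i <;> fin_cases j <;> simp [upU_coe, loU_coe, Matrix.mul_apply, Fin.sum_univ_two, hx]

theorem loU_mul_wU {x : F} (hx : x ≠ 0) (y : F) : loU y * wU x = wU x * upU (-(y * (x * x))) := by
  apply Subtype.ext
  rw [Matrix.SpecialLinearGroup.coe_mul, Matrix.SpecialLinearGroup.coe_mul, wU_coe hx]
  ext i j
  fin_cases i <;> fin_cases j <;>
    simp [upU_coe, loU_coe, Matrix.mul_apply, Fin.sum_univ_two] <;> field_simp

theorem upU_mul_wU {x : F} (hx : x ≠ 0) (y : F) : upU y * wU x = wU x * loU (-(y / (x * x))) := by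
  apply Subtype.ext
  rw [Matrix.SpecialLinearGroup.coe_mul, Matrix.SpecialLinearGroup.coe_mul, wU_coe hx]
  ext i j
  fin_cases i <;> fin_cases j <;>
    simp [upU_coe, loU_coe, Matrix.mul_apply, Fin.sum_univ_two] <;> field_simp

theorem wU_one_inv : (wU (1 : F))⁻¹ = wU (-1) := by
  apply Subtype.ext
  rw [wU_inv_coe one_ne_zero, wU_coe (neg_ne_zero.2 one_ne_zero)]
  ext i j
  fin_cases i <;> fin_cases j <;> simp

theorem hU_mul {x y : F} (hx : x ≠ 0) (hy : y ≠ 0) : hU (x * y) = hU x * hU y := by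
  apply Subtype.ext
  rw [Matrix.SpecialLinearGroup.coe_mul, hU_coe hx, hU_coe hy, hU_coe (mul_ne_zero hx hy)]
  ext i j
  fin_cases i <;> fin_cases j <;> simp [Matrix.mul_apply, Fin.sum_univ_two, mul_comm]

theorem wU_neg_inv {y : F} (hy : y ≠ 0) : wU (-y⁻¹) = (wU 1)⁻¹ * hU y := by
  apply Subtype.ext
  rw [Matrix.SpecialLinearGroup.coe_mul, wU_inv_coe one_ne_zero, hU_coe hy,
    wU_coe (neg_ne_zero.2 (inv_ne_zero hy))]
  ext i j
  fin_cases i <;> fin_cases j <;> simp [Matrix.mul_apply, Fin.sum_univ_two]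

theorem loU_add (x y : F) : loU (x + y) = loU x * loU y := by
  apply Subtype.ext
  simp [loU_coe, Matrix.SpecialLinearGroup.coe_mul]

theorem loU_zero : loU (0 : F) = 1 := by
  apply Subtype.ext
  ext i j
  fin_cases i <;> fin_cases j <;> simp [loU_coe]

theorem exists_natural_equiv [Finite F] {M : Type*} [AddCommGroup M] [Finite M] [Nontrivial M]
    {p : ℕ} [hp : Fact p.Prime] [CharP F p] (hM : ∀ v : M, p • v = 0)
    (ρ : Matrix.SpecialLinearGroup (Fin 2) F →* AddMonoid.End M)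
    (hirr : ∀ P : AddSubgroup M, (∀ g, ∀ v ∈ P, ρ g v ∈ P) → P = ⊥ ∨ P = ⊤)
    (hnt : ∃ g v, ρ g v ≠ v)
    (hyp : (∀ x y : F, ∀ v : M, ρ (upU x) (ρ (upU y) v - v) = ρ (upU y) v - v) ∨
      Nat.card M ≤ Nat.card {v : M // ∀ x : F, ρ (upU x) v = v} ^ 2) :
    ∃ L : (Fin 2 → F) →+ M, Function.Bijective L ∧
      ∀ g c, ρ g (L c) = L (((g : Matrix.SpecialLinearGroup (Fin 2) F) : Matrix (Fin 2) (Fin 2) F).mulVec c) := by
  classical
  have hmul : ∀ g h v, ρ (g * h) v = ρ g (ρ h v) := fun g h v => by rw [map_mul]; rfl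
  have hone : ∀ v, ρ 1 v = v := fun v => by rw [map_one]; rfl
  have hii : ∀ g v, ρ g⁻¹ (ρ g v) = v := fun g v => by rw [← hmul, inv_mul_cancel, hone]
  let W := wU (1 : F)
  let Wi := (wU (1 : F))⁻¹
  -- invariance from generators
  have hinv : ∀ P : AddSubgroup M, (∀ x, ∀ v ∈ P, ρ (upU x) v ∈ P) → (∀ x, ∀ v ∈ P, ρ (loU x) v ∈ P) →
      P = ⊥ ∨ P = ⊤ := by
    intro P hu hl
    refine hirr P fun g v hv => ?_
    let H : Subgroup (Matrix.SpecialLinearGroup (Fin 2) F) :=
      { carrier := {g | ∀ v, v ∈ P ↔ ρ g v ∈ P}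
        one_mem' := fun v => by rw [hone]
        mul_mem' := fun {a b} ha hb v => by rw [hmul]; exact (hb v).trans (ha _)
        inv_mem' := fun {a} ha v => by
          have := ha (ρ a⁻¹ v)
          rw [← hmul, mul_inv_cancel, hone] at this
          exact this.symm }
    have htop : H = ⊤ := by
      refine eq_top_of_unipotents H (fun x v => ⟨hu x v, fun h => ?_⟩) (fun x v => ⟨hl x v, fun h => ?_⟩)
      · have := hu (-x) _ h
        rwa [← hmul, ← upU_add, neg_add_cancel, upU_zero, hone] at this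
      · have := hl (-x) _ h
        rwa [← hmul, ← loU_add, neg_add_cancel, loU_zero, hone] at this
    exact ((htop ▸ Subgroup.mem_top g : g ∈ H) v).1 hv
  let V₀ : AddSubgroup M :=
    { carrier := {v | ∀ x : F, ρ (upU x) v = v}
      zero_mem' := fun x => map_zero _
      add_mem' := fun {a b} ha hb x => by rw [map_add, ha x, hb x]
      neg_mem' := fun {a} ha x => by rw [map_neg, ha x] }
  let V₁ : AddSubgroup M :=
    { carrier := {v | ∀ x : F, ρ (loU x) v = v}
      zero_mem' := fun x => map_zero _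
      add_mem' := fun {a b} ha hb x => by rw [map_add, ha x, hb x]
      neg_mem' := fun {a} ha x => by rw [map_neg, ha x] }
  have hw01 : ∀ {x : F}, x ≠ 0 → ∀ v ∈ V₀, ρ (wU x) v ∈ V₁ := fun {x} hx v hv y => by
    rw [← hmul, loU_mul_wU hx, hmul, hv]
  have hw10 : ∀ {x : F}, x ≠ 0 → ∀ v ∈ V₁, ρ (wU x) v ∈ V₀ := fun {x} hx v hv y => by
    rw [← hmul, upU_mul_wU hx, hmul, hv]
  have hWi01 : ∀ v ∈ V₀, ρ Wi v ∈ V₁ := fun v hv => by
    show ρ (wU (1 : F))⁻¹ v ∈ V₁
    rw [wU_one_inv]; exact hw01 (neg_ne_zero.2 one_ne_zero) v hv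
  have hfix : ∀ v, v ∈ V₀ → v ∈ V₁ → v = 0 := by
    intro v h0 h1
    let P : AddSubgroup M :=
      { carrier := {v | ∀ g, ρ g v = v}
        zero_mem' := fun g => map_zero _
        add_mem' := fun {a b} ha hb g => by rw [map_add, ha g, hb g]
        neg_mem' := fun {a} ha g => by rw [map_neg, ha g] }
    have hv : v ∈ P := by
      intro g
      let H : Subgroup (Matrix.SpecialLinearGroup (Fin 2) F) :=
        { carrier := {g | ρ g v = v}
          one_mem' := hone v
          mul_mem' := fun {a b} (ha : ρ a v = v) (hb : ρ b v = v) => by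
            show ρ (a * b) v = v; rw [hmul, hb, ha]
          inv_mem' := fun {a} (ha : ρ a v = v) => by
            show ρ a⁻¹ v = v; nth_rewrite 1 [← ha]; exact hii a v }
      exact (eq_top_of_unipotents H h0 h1 ▸ Subgroup.mem_top g : g ∈ H)
    rcases hirr P (fun g w hw => by rw [hw g]; exact hw) with h | h
    · exact (AddSubgroup.mem_bot).1 (h ▸ hv)
    · obtain ⟨g, w, hgw⟩ := hnt
      exact absurd ((h ▸ AddSubgroup.mem_top w : w ∈ P) g) hgw
  -- unipotents act unipotently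
  let N : F → AddMonoid.End M := fun x => ρ (upU x) - 1
  have hN : ∀ x v, N x v = ρ (upU x) v - v := fun x v => rfl
  haveI : Nontrivial (AddMonoid.End M) := by
    obtain ⟨v, hv⟩ := exists_ne (0 : M)
    exact ⟨1, 0, fun h => hv (by simpa using DFunLike.congr_fun h v)⟩
  haveI : CharP (AddMonoid.End M) p :=
    (CharP.charP_iff_prime_eq_zero hp.1).2 (AddMonoidHom.ext fun v =>
      (AddMonoid.End.natCast_apply p v).trans ((hM v).trans (AddMonoidHom.zero_apply v).symm))
  have hpow : ∀ (x : F) (k : ℕ), upU x ^ k = upU ((k : F) * x) := by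
    intro x k
    induction k with
    | zero => simp [upU_zero]
    | succ k ih => rw [pow_succ, ih, ← upU_add]; push_cast; ring_nf
  have hnil : ∀ x, N x ^ p = 0 := fun x => by
    rw [sub_pow_char_of_commute p (Commute.one_right _), ← map_pow, hpow, CharP.cast_eq_zero, zero_mul,
      upU_zero, map_one, one_pow, sub_self]
  have hcomm : ∀ x y, Commute (N x) (N y) := fun x y => by
    have h : Commute (ρ (upU x)) (ρ (upU y)) := by
      unfold Commute SemiconjBy
      rw [← map_mul, ← map_mul, ← upU_add, ← upU_add, add_comm]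
    exact ((h.sub_left (Commute.one_left _)).sub_right (Commute.one_right _))
  have hchain : ∀ B : AddSubgroup M, B ≤ V₀ → B ≠ ⊤ → ∃ v, v ∉ B ∧ ∀ x, N x v ∈ B := by
    intro B hB hBtop
    haveI := Fintype.ofFinite F
    suffices H : ∀ S : Finset F, ∃ v, v ∉ B ∧ ∀ x ∈ S, N x v ∈ B by
      obtain ⟨v, hv, h⟩ := H Finset.univ
      exact ⟨v, hv, fun x => h x (Finset.mem_univ x)⟩
    intro S
    induction S using Finset.induction with
    | empty =>
      obtain ⟨v, hv⟩ : ∃ v, v ∉ B := by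
        by_contra h
        push Not at h
        exact hBtop (AddSubgroup.ext fun v => ⟨fun _ => AddSubgroup.mem_top v, fun _ => h v⟩)
      exact ⟨v, hv, by simp⟩
    | insert x S hxS ih =>
      obtain ⟨v, hv, hS⟩ := ih
      have hex : ∃ k, (N x ^ k) v ∈ B := ⟨p, by rw [hnil]; exact B.zero_mem⟩
      obtain ⟨j, hj⟩ : ∃ j, Nat.find hex = j + 1 := Nat.exists_eq_succ_of_ne_zero fun h => hv (by
        have := Nat.find_spec hex
        rw [h, pow_zero] at this
        exact this)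
      refine ⟨(N x ^ j) v, Nat.find_min hex (by omega), fun y hy => ?_⟩
      rcases Finset.mem_insert.1 hy with rfl | hy
      · have := Nat.find_spec hex
        rw [hj, pow_succ'] at this
        exact this
      · have hc : N y ((N x ^ j) v) = (N x ^ j) (N y v) := DFunLike.congr_fun ((hcomm y x).pow_right j).eq v
        rw [hc]
        rcases j with _ | j
        · rw [pow_zero]; exact hS y hy
        · rw [pow_succ]
          change (N x ^ j) (N x (N y v)) ∈ B
          rw [hN x, hB (hS y hy) x, sub_self, map_zero]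
          exact B.zero_mem
  have hV₀bot : V₀ ≠ ⊥ := by
    intro h
    obtain ⟨v, hv, hvN⟩ := hchain ⊥ bot_le bot_ne_top
    apply hv
    rw [← h]
    intro x
    have := (AddSubgroup.mem_bot).1 (hvN x)
    rwa [hN, sub_eq_zero] at this
  -- the decomposition
  have hdec : ∀ v, ∃ a ∈ V₀, ∃ b ∈ V₁, a + b = v := by
    have htop : V₀ ⊔ V₁ = ⊤ := by
      rcases hyp with hq | hc
      · have hu : ∀ x, ∀ v ∈ V₁, ρ (upU x) v - v ∈ V₀ := fun x v _ y => hq y x v
        have hl : ∀ y, ∀ a ∈ V₀, ρ (loU y) a - a ∈ V₁ := by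
          intro y a ha
          obtain ⟨a', ha', rfl⟩ : ∃ b ∈ V₁, ρ W b = a := ⟨ρ Wi a, hWi01 a ha, by
            rw [← hmul, mul_inv_cancel, hone]⟩
          have e : loU y * W = W * upU (-(y * (1 * 1))) := loU_mul_wU one_ne_zero y
          rw [← hmul, e, hmul, ← map_sub]
          exact hw01 one_ne_zero _ (hu _ a' ha')
        refine (hinv (V₀ ⊔ V₁) (fun x v hv => ?_) (fun x v hv => ?_)).elim (fun h => ?_) (fun h => ?_)
        rotate_left 2
        · exact absurd (le_bot_iff.1 (h ▸ le_sup_left)) hV₀bot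
        · exact h
        · obtain ⟨a, ha, b, hb, rfl⟩ := AddSubgroup.mem_sup.1 hv
          rw [map_add, ha x, show a + ρ (upU x) b = (a + (ρ (upU x) b - b)) + b by abel]
          exact AddSubgroup.add_mem_sup (V₀.add_mem ha (hu x b hb)) hb
        · obtain ⟨a, ha, b, hb, rfl⟩ := AddSubgroup.mem_sup.1 hv
          rw [map_add, hb x, show ρ (loU x) a + b = a + ((ρ (loU x) a - a) + b) by abel]
          exact AddSubgroup.add_mem_sup ha (V₁.add_mem (hl x a ha) hb)
      · have hbij : Nat.card V₀ = Nat.card V₁ := by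
          refine Nat.card_congr ⟨fun v => ⟨ρ W v, hw01 one_ne_zero _ v.2⟩, fun v => ⟨ρ Wi v, ?_⟩, ?_, ?_⟩
          · show ρ (wU (1 : F))⁻¹ (v : M) ∈ V₀
            rw [wU_one_inv]; exact hw10 (neg_ne_zero.2 one_ne_zero) _ v.2
          · exact fun v => Subtype.ext (hii W v)
          · exact fun v => Subtype.ext (by
              show ρ W (ρ Wi (v : M)) = v
              rw [← hmul, mul_inv_cancel, hone])
        have hinj : Function.Injective (fun y : V₀ × V₁ => (y.1 : M) + y.2) := by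
          rintro ⟨a, b⟩ ⟨c, d⟩ h
          simp only at h
          have h0 : (a : M) - c = d - b := by rw [sub_eq_sub_iff_add_eq_add, h]; abel
          have := hfix _ (V₀.sub_mem a.2 c.2) (h0 ▸ V₁.sub_mem d.2 b.2)
          have e1 : a = c := Subtype.ext (sub_eq_zero.1 this)
          rw [h0] at this
          exact Prod.ext e1 (Subtype.ext (sub_eq_zero.1 this).symm)
        have hcard : Nat.card (V₀ × V₁) = Nat.card M := by
          refine le_antisymm (Nat.card_le_card_of_injective _ hinj) ?_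
          rw [Nat.card_prod, ← hbij, ← pow_two]
          exact hc
        have hsurj := (hinj.bijective_of_nat_card_le hcard.ge).2
        refine (AddSubgroup.ext fun v => ⟨fun _ => AddSubgroup.mem_top v, fun _ => ?_⟩)
        obtain ⟨⟨a, b⟩, hab⟩ := hsurj v
        exact hab ▸ AddSubgroup.add_mem_sup a.2 b.2
    intro v
    exact AddSubgroup.mem_sup.1 (htop.ge (AddSubgroup.mem_top v))
  -- the two key formulas
  have keyu : ∀ b ∈ V₁, (∀ y, N y b ∈ V₀) → ∀ {x : F}, x ≠ 0 → ρ (upU x) b - b = ρ (wU x) b := by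
    intro b hb hbN x hx
    set a := ρ (upU x) b - b with ha
    have haV : a ∈ V₀ := hbN x
    have hub : ρ (upU x) b = a + b := by rw [ha]; abel
    have e1 : ρ (loU (-x⁻¹)) a = ρ (wU x) b - b := by
      have : ρ (wU x) b = ρ (loU (-x⁻¹)) a + b := by
        rw [← wU_alt hx, hmul, hmul, hb, hub, map_add, hb]
      rw [this]; abel
    have e2 : ρ (wU x) a = ρ (wU x) b - a - b := by
      have : ρ (wU x) a = ρ (upU x) (ρ (loU (-x⁻¹)) (ρ (upU x) a)) := by rw [wU, hmul, hmul]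
      rw [this, haV x, e1, map_sub, hw10 hx b hb x, hub]; abel
    have e3 : ρ (wU x) b - a = ρ (wU x) a + b := by rw [e2]; abel
    have := hfix _ (V₀.sub_mem (hw10 hx b hb) haV) (e3 ▸ V₁.add_mem (hw01 hx a haV) hb)
    exact (sub_eq_zero.1 this).symm
  have keyl : ∀ a ∈ V₀, (∀ y, ρ (loU y) a - a ∈ V₁) → ∀ {x : F}, x ≠ 0 →
      ρ (loU (-x⁻¹)) a - a = ρ (wU x) a := by
    intro a ha haN x hx
    set c := ρ (loU (-x⁻¹)) a - a with hc
    have hcV : c ∈ V₁ := haN _
    have hla : ρ (loU (-x⁻¹)) a = c + a := by rw [hc]; abel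
    have e1 : ρ (upU x) c = ρ (wU x) a - a := by
      have : ρ (wU x) a = ρ (upU x) c + a := by rw [wU, hmul, hmul, ha, hla, map_add, ha]
      rw [this]; abel
    have e2 : ρ (wU x) c = ρ (wU x) a - c - a := by
      have : ρ (wU x) c = ρ (loU (-x⁻¹)) (ρ (upU x) (ρ (loU (-x⁻¹)) c)) := by rw [← hmul, ← hmul, wU_alt hx]
      rw [this, hcV, e1, map_sub, hw01 hx a ha, hla]; abel
    have e3 : ρ (wU x) a - c = ρ (wU x) c + a := by rw [e2]; abel
    have := hfix _ (e3 ▸ V₀.add_mem (hw10 hx c hcV) ha) (V₁.sub_mem (hw01 hx a ha) hcV)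
    exact (sub_eq_zero.1 this).symm
  let K : AddSubgroup M :=
    { carrier := {b | b ∈ V₁ ∧ ∀ y, N y b ∈ V₀}
      zero_mem' := ⟨V₁.zero_mem, fun y => by rw [map_zero]; exact V₀.zero_mem⟩
      add_mem' := fun {a b} ha hb => ⟨V₁.add_mem ha.1 hb.1, fun y => by rw [map_add]; exact V₀.add_mem (ha.2 y) (hb.2 y)⟩
      neg_mem' := fun {a} ha => ⟨V₁.neg_mem ha.1, fun y => by rw [map_neg]; exact V₀.neg_mem (ha.2 y)⟩ }
  let A : AddSubgroup M :=
    { carrier := {a | a ∈ V₀ ∧ ∀ y, ρ (loU y) a - a ∈ V₁}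
      zero_mem' := ⟨V₀.zero_mem, fun y => by rw [map_zero, sub_zero]; exact V₁.zero_mem⟩
      add_mem' := fun {a b} ha hb => ⟨V₀.add_mem ha.1 hb.1, fun y => by
        rw [map_add, add_sub_add_comm]; exact V₁.add_mem (ha.2 y) (hb.2 y)⟩
      neg_mem' := fun {a} ha => ⟨V₀.neg_mem ha.1, fun y => by
        rw [map_neg, show -(ρ (loU y)) a - -a = -((ρ (loU y)) a - a) by abel]; exact V₁.neg_mem (ha.2 y)⟩ }
  have hwK : ∀ {x : F}, x ≠ 0 → ∀ b ∈ K, ρ (wU x) b ∈ A := fun {x} hx b hb => by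
    refine ⟨hw10 hx b hb.1, fun y => ?_⟩
    rw [← hmul, loU_mul_wU hx, hmul, ← map_sub]
    exact hw01 hx _ (hb.2 _)
  have hwA : ∀ {x : F}, x ≠ 0 → ∀ a ∈ A, ρ (wU x) a ∈ K := fun {x} hx a ha => by
    refine ⟨hw01 hx a ha.1, fun y => ?_⟩
    rw [hN, ← hmul, upU_mul_wU hx, hmul, ← map_sub]
    exact hw10 hx _ (ha.2 _)
  have hKbot : K ≠ ⊥ := by
    have hne : V₀ ≠ ⊤ := by
      intro h
      obtain ⟨v, hv, hv0⟩ := (AddSubgroup.bot_or_exists_ne_zero V₀).resolve_left hV₀bot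
      exact hv0 (by
        have h1 := hfix _ (h ▸ AddSubgroup.mem_top (ρ W v)) (hw01 one_ne_zero v hv)
        have := congrArg (ρ W⁻¹) h1
        rwa [hii, map_zero] at this)
    obtain ⟨v, hv, hvN⟩ := hchain V₀ le_rfl hne
    obtain ⟨a, ha, b, hb, rfl⟩ := hdec v
    intro h
    have hbK : b ∈ K := ⟨hb, fun y => by
      have := hvN y
      rwa [map_add, hN y a, ha y, sub_self, zero_add] at this⟩
    rw [h, AddSubgroup.mem_bot] at hbK
    exact hv (by rw [hbK, add_zero]; exact ha)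
  have hAK : A ⊔ K = ⊤ := by
    refine (hinv (A ⊔ K) (fun x v hv => ?_) (fun x v hv => ?_)).elim (fun h => ?_) (fun h => ?_)
    rotate_left 2
    · exact absurd (le_bot_iff.1 (h ▸ le_sup_right)) hKbot
    · exact h
    · obtain ⟨a, ha, b, hb, rfl⟩ := AddSubgroup.mem_sup.1 hv
      by_cases hx : x = 0
      · rw [hx, upU_zero, hone]; exact AddSubgroup.add_mem_sup ha hb
      rw [map_add, ha.1 x, show a + ρ (upU x) b = (a + (ρ (upU x) b - b)) + b by abel,
        keyu b hb.1 hb.2 hx]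
      exact AddSubgroup.add_mem_sup (A.add_mem ha (hwK hx b hb)) hb
    · obtain ⟨a, ha, b, hb, rfl⟩ := AddSubgroup.mem_sup.1 hv
      by_cases hx : x = 0
      · rw [hx, loU_zero, hone]; exact AddSubgroup.add_mem_sup ha hb
      have hx' : -x⁻¹ ≠ 0 := neg_ne_zero.2 (inv_ne_zero hx)
      have hk := keyl a ha.1 ha.2 hx'
      rw [show -(-x⁻¹)⁻¹ = x by simp [inv_neg]] at hk
      rw [map_add, hb.1 x, show ρ (loU x) a + b = a + ((ρ (loU x) a - a) + b) by abel, hk]
      exact AddSubgroup.add_mem_sup ha (K.add_mem (hwA hx' a ha) hb)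
  have hKall : ∀ b ∈ V₁, ∀ y, N y b ∈ V₀ := by
    intro b hb
    obtain ⟨a, ha, k, hk, hak⟩ := AddSubgroup.mem_sup.1 (hAK.ge (AddSubgroup.mem_top b))
    have h0 : a = 0 := hfix a ha.1 (by rw [eq_sub_of_add_eq hak]; exact V₁.sub_mem hb hk.1)
    rw [h0, zero_add] at hak
    exact hak ▸ hk.2
  have hAall : ∀ a ∈ V₀, ∀ y, ρ (loU y) a - a ∈ V₁ := by
    intro a ha
    obtain ⟨a', ha', k, hk, hak⟩ := AddSubgroup.mem_sup.1 (hAK.ge (AddSubgroup.mem_top a))
    have h0 : k = 0 := hfix k (by rw [eq_sub_of_add_eq' hak]; exact V₀.sub_mem ha ha'.1) hk.1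
    rw [h0, add_zero] at hak
    exact hak ▸ ha'.2
  -- the scalar action
  let φ : F → M → M := fun x a => N x (ρ Wi a)
  have hφh : ∀ {x : F}, x ≠ 0 → ∀ a ∈ V₀, φ x a = ρ (hU x) a := fun {x} hx a ha => by
    show N x (ρ Wi a) = _
    rw [hN, keyu _ (hWi01 a ha) (hKall _ (hWi01 a ha)) hx, ← hmul]
    rfl
  have hφV : ∀ x, ∀ a ∈ V₀, φ x a ∈ V₀ := fun x a ha => hKall _ (hWi01 a ha) x
  have hφzero : ∀ a, φ 0 a = 0 := fun a => by
    show N 0 _ = 0
    rw [hN, upU_zero, hone, sub_self]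
  have hφone : ∀ a ∈ V₀, φ 1 a = a := fun a ha => by
    rw [hφh one_ne_zero a ha, hU, mul_inv_cancel, hone]
  have hφadd : ∀ x y, ∀ a ∈ V₀, φ (x + y) a = φ x a + φ y a := fun x y a ha => by
    show N (x + y) (ρ Wi a) = N x (ρ Wi a) + N y (ρ Wi a)
    have h1 : ρ (upU x) (ρ (upU y) (ρ Wi a) - ρ Wi a) = ρ (upU y) (ρ Wi a) - ρ Wi a :=
      hKall _ (hWi01 a ha) y x
    rw [map_sub] at h1
    rw [hN, hN, hN, upU_add, hmul, sub_eq_iff_eq_add.1 h1]; abel
  have hφmul : ∀ x y, ∀ a ∈ V₀, φ (x * y) a = φ x (φ y a) := fun x y a ha => by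
    by_cases hx : x = 0
    · rw [hx, zero_mul, hφzero, hφzero]
    by_cases hy : y = 0
    · rw [hy, mul_zero, hφzero]
      show (0 : M) = N x (ρ Wi (0 : M))
      rw [map_zero, map_zero]
    rw [hφh (mul_ne_zero hx hy) a ha, hφh hx _ (hφV y a ha), hφh hy a ha, ← hmul, hU_mul hx hy]
  obtain ⟨a₀, ha₀, ha₀0⟩ := (AddSubgroup.bot_or_exists_ne_zero V₀).resolve_left hV₀bot
  let L : (Fin 2 → F) →+ M := AddMonoidHom.mk' (fun c => φ (c 0) a₀ + ρ Wi (φ (c 1) a₀)) fun c d => by
    simp only [Pi.add_apply]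
    rw [hφadd _ _ _ ha₀, hφadd _ _ _ ha₀, map_add]; abel
  have hLap : ∀ c, L c = φ (c 0) a₀ + ρ Wi (φ (c 1) a₀) := fun c => rfl
  have hu : ∀ x c, ρ (upU x) (L c) = L (((upU x : Matrix.SpecialLinearGroup (Fin 2) F) : Matrix (Fin 2) (Fin 2) F).mulVec c) := by
    intro x c
    rw [hLap, hLap, map_add, hφV _ _ ha₀ x]
    have e0 : ((upU x : Matrix.SpecialLinearGroup (Fin 2) F) : Matrix (Fin 2) (Fin 2) F).mulVec c 0 = c 0 + x * c 1 := by
      simp [upU_coe, Matrix.mulVec, dotProduct, Fin.sum_univ_two]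
    have e1 : ((upU x : Matrix.SpecialLinearGroup (Fin 2) F) : Matrix (Fin 2) (Fin 2) F).mulVec c 1 = c 1 := by
      simp [upU_coe, Matrix.mulVec, dotProduct, Fin.sum_univ_two]
    rw [e0, e1, hφadd _ _ _ ha₀, hφmul x _ _ ha₀]
    show _ = φ (c 0) a₀ + N x (ρ Wi (φ (c 1) a₀)) + ρ Wi (φ (c 1) a₀)
    rw [hN]; abel
  have hl : ∀ y c, ρ (loU y) (L c) = L (((loU y : Matrix.SpecialLinearGroup (Fin 2) F) : Matrix (Fin 2) (Fin 2) F).mulVec c) := by
    intro y c
    rw [hLap, hLap, map_add, hWi01 _ (hφV _ _ ha₀) y]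
    have e0 : ((loU y : Matrix.SpecialLinearGroup (Fin 2) F) : Matrix (Fin 2) (Fin 2) F).mulVec c 0 = c 0 := by
      simp [loU_coe, Matrix.mulVec, dotProduct, Fin.sum_univ_two]
    have e1 : ((loU y : Matrix.SpecialLinearGroup (Fin 2) F) : Matrix (Fin 2) (Fin 2) F).mulVec c 1 = y * c 0 + c 1 := by
      simp [loU_coe, Matrix.mulVec, dotProduct, Fin.sum_univ_two]
    rw [e0, e1, hφadd _ _ _ ha₀, hφmul y _ _ ha₀, map_add]
    set a := φ (c 0) a₀ with hadef
    have haV : a ∈ V₀ := hφV _ _ ha₀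
    by_cases hy : y = 0
    · subst hy
      rw [loU_zero, hone, hφzero, map_zero]; abel
    have hk := keyl a haV (hAall a haV) (neg_ne_zero.2 (inv_ne_zero hy))
    rw [show -(-y⁻¹)⁻¹ = y by simp [inv_neg], wU_neg_inv hy, hmul, ← hφh hy a haV] at hk
    rw [sub_eq_iff_eq_add.1 hk]; abel
  refine ⟨L, ⟨?_, ?_⟩, ?_⟩
  · rw [injective_iff_map_eq_zero]
    intro c hc
    rw [hLap] at hc
    have h0 := hfix _ (hφV (c 0) _ ha₀) (by
      rw [eq_neg_of_add_eq_zero_left hc]; exact V₁.neg_mem (hWi01 _ (hφV _ _ ha₀)))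
    rw [h0, zero_add] at hc
    have h1 : φ (c 1) a₀ = 0 := by
      have := congrArg (ρ Wi⁻¹) hc
      rwa [hii, map_zero] at this
    have hz : ∀ s : F, φ s a₀ = 0 → s = 0 := fun s hs => by
      by_contra hs0
      apply ha₀0
      rw [← hφone a₀ ha₀, ← inv_mul_cancel₀ hs0, hφmul _ _ _ ha₀, hs]
      show N s⁻¹ (ρ Wi (0 : M)) = 0
      rw [map_zero, map_zero]
    ext i
    fin_cases i
    · exact hz _ h0
    · exact hz _ h1
  · refine (hinv L.range (fun x v hv => ?_) (fun x v hv => ?_)).elim (fun h => ?_) (fun h => ?_)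
    rotate_left 2
    · exfalso
      apply ha₀0
      have : L ![1, 0] ∈ (⊥ : AddSubgroup M) := h ▸ ⟨_, rfl⟩
      rw [AddSubgroup.mem_bot, hLap] at this
      simpa [hφone a₀ ha₀, hφzero] using this
    · exact fun v => (h.ge (AddSubgroup.mem_top v) : v ∈ L.range)
    · obtain ⟨c, rfl⟩ := hv; exact ⟨_, (hu x c).symm⟩
    · obtain ⟨c, rfl⟩ := hv; exact ⟨_, (hl x c).symm⟩
  · intro g
    let H : Subgroup (Matrix.SpecialLinearGroup (Fin 2) F) :=
      { carrier := {g | ∀ c, ρ g (L c) = L (((g : Matrix.SpecialLinearGroup (Fin 2) F) : Matrix (Fin 2) (Fin 2) F).mulVec c)}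
        one_mem' := fun c => by rw [hone, Matrix.SpecialLinearGroup.coe_one, Matrix.one_mulVec]
        mul_mem' := fun {a b} ha hb c => by
          rw [hmul, hb, ha, Matrix.mulVec_mulVec, Matrix.SpecialLinearGroup.coe_mul]
        inv_mem' := fun {a} ha c => by
          have := ha (((a⁻¹ : Matrix.SpecialLinearGroup (Fin 2) F) : Matrix (Fin 2) (Fin 2) F).mulVec c)
          rw [Matrix.mulVec_mulVec, ← Matrix.SpecialLinearGroup.coe_mul, mul_inv_cancel,
            Matrix.SpecialLinearGroup.coe_one, Matrix.one_mulVec] at this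
          rw [← this, hii] }
    exact (eq_top_of_unipotents H hu hl ▸ Subgroup.mem_top g : g ∈ H)

end Cfsg.Agent.LAE62
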