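import Cfsg.Agent.Subnormal.Join
import Cfsg.Agent.Cores.Fitting
import Cfsg.Agent.Cores.Residual
import Cfsg.Agent.LAE62.SylowBasics

/-!
Joins of subnormal subgroups, `p`-residuals and Sylow intersections.
-/

set_option autoImplicit false

open Subgroup Pointwise

namespace Cfsg.Agent.LAE62

universe u

/-- The subgroup generated by the elements of `A` of order prime to `p`. -/
def resid {G : Type u} [Group G] (p : ℕ) (A : Subgroup G) : Subgroup G :=
  Subgroup.closure {g : G | g ∈ A ∧ (orderOf g).Coprime p}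

variable {G : Type u} [Group G] {p : ℕ}

theorem resid_le (A : Subgroup G) : resid p A ≤ A :=
  (Subgroup.closure_le _).2 fun _ hg => hg.1

theorem mem_resid {A : Subgroup G} {g : G} (h1 : g ∈ A) (h2 : (orderOf g).Coprime p) :
    g ∈ resid p A :=
  Subgroup.subset_closure ⟨h1, h2⟩

theorem resid_mono {A B : Subgroup G} (h : A ≤ B) : resid p A ≤ resid p B :=
  Subgroup.closure_mono fun _ hg => ⟨h hg.1, hg.2⟩

theorem resid_resid (A : Subgroup G) : resid p (resid p A) = resid p A :=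
  le_antisymm (resid_le _) ((Subgroup.closure_le _).2 fun _ hg =>
    mem_resid (mem_resid hg.1 hg.2) hg.2)

theorem resid_conj_mem {A : Subgroup G} {a g : G} (ha : a ∈ A) (hg : g ∈ resid p A) :
    a * g * a⁻¹ ∈ resid p A := by
  have h : resid p A ≤ (resid p A).comap (MulAut.conj a).toMonoidHom := by
    refine (Subgroup.closure_le _).2 fun x hx => ?_
    refine mem_resid (A.mul_mem (A.mul_mem ha hx.1) (A.inv_mem ha)) ?_
    have : orderOf (a * x * a⁻¹) = orderOf x := by
      rw [← MulAut.conj_apply, MulEquiv.orderOf_eq]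
    change (orderOf (a * x * a⁻¹)).Coprime p
    rw [this]; exact hx.2
  exact h hg

theorem isSubnormal_resid [Finite G] {A : Subgroup G} (hA : A.IsSubnormal) :
    (resid p A).IsSubnormal := by
  refine IsSubnormal.trans (resid_le A) (Subgroup.Normal.isSubnormal ⟨fun n hn g => ?_⟩) hA
  exact resid_conj_mem g.2 hn

/-- A subgroup containing `x ^ m` and `x ^ q` for coprime `m`, `q` contains `x`. -/
theorem mem_of_pow_coprime {K : Subgroup G} {x : G} {m q : ℕ} (h : m.Coprime q)
    (h1 : x ^ m ∈ K) (h2 : x ^ q ∈ K) : x ∈ K := by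
  have := Nat.gcd_eq_gcd_ab m q
  rw [h.gcd_eq_one] at this
  have hx : x = (x ^ m) ^ (Nat.gcdA m q) * (x ^ q) ^ (Nat.gcdB m q) := by
    rw [← zpow_natCast x m, ← zpow_natCast x q, ← zpow_mul, ← zpow_mul, ← zpow_add, ← this]
    simp
  rw [hx]
  exact K.mul_mem (K.zpow_mem h1 _) (K.zpow_mem h2 _)

/-- Splitting an element into its `p`-part and its part of order prime to `p`. -/
theorem exists_pow_split [Finite G] [hp : Fact p.Prime] (x : G) : ∃ m q : ℕ, m.Coprime q ∧
    (∃ k, (x ^ m) ^ p ^ k = 1) ∧ (orderOf (x ^ q)).Coprime p := by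
  refine ⟨orderOf x / p ^ (orderOf x).factorization p, p ^ (orderOf x).factorization p,
    (Nat.coprime_ordCompl hp.1 (orderOf_pos x).ne').symm.pow_right _,
    ⟨(orderOf x).factorization p, ?_⟩, ?_⟩
  · rw [← pow_mul, Nat.div_mul_cancel (Nat.ordProj_dvd _ _), pow_orderOf_eq_one]
  · rw [orderOf_pow' x (pow_ne_zero _ hp.1.ne_zero),
      Nat.gcd_eq_right (Nat.ordProj_dvd (orderOf x) p)]
    exact (Nat.coprime_ordCompl hp.1 (orderOf_pos x).ne').symm

theorem mem_of_pow_eq_one_coprime [hp : Fact p.Prime] {x : G} {k : ℕ}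
    (h : x ^ p ^ k = 1) (hc : (orderOf x).Coprime p) : x = 1 := by
  rw [← orderOf_eq_one_iff]
  exact Nat.eq_one_of_dvd_coprimes (hc.pow_right k) dvd_rfl (orderOf_dvd_of_pow_eq_one h)

/-- The key configuration: `Q` normal, `a` a `p`-element in a subnormal `Z`. -/
theorem key_aux [Finite G] [hp : Fact p.Prime] (Q M Z : Subgroup G) (a : G) [hQ : Q.Normal]
    (ha : ∃ k, a ^ p ^ k = 1) (htop : Q ⊔ Subgroup.zpowers a = ⊤)
    (hZ : Z.IsSubnormal) (haZ : a ∈ Z) (hMQ : M ≤ Q) (hQM : Q ≤ normalizer (M : Set G))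
    (hmax : ∀ X : Subgroup G, M ≤ X → X ≤ Q → Q ≤ normalizer (X : Set G) → X = M ∨ X = Q)
    (hZQ : Z ⊓ Q ≤ M) (hperf : ∃ y ∈ Q, (orderOf y).Coprime p ∧ y ∉ M) :
    a ∈ normalizer (M : Set G) := by
  classical
  set K := M.normalCore with hK
  have hdec : ∀ g : G, ∃ q ∈ Q, ∃ z ∈ Subgroup.zpowers a, q * z = g := fun g =>
    Subgroup.mem_sup_of_normal_left.1 (htop ▸ Subgroup.mem_top g)
  have hZQK : Z ⊓ Q ≤ K := by
    intro x hx g
    obtain ⟨q, hq, z, hz, rfl⟩ := hdec g
    have hzZ : z ∈ Z := (Subgroup.zpowers_le.2 haZ) hz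
    have h1 : z * x * z⁻¹ ∈ M :=
      hZQ ⟨Z.mul_mem (Z.mul_mem hzZ hx.1) (Z.inv_mem hzZ), hQ.conj_mem x hx.2 z⟩
    have h2 := (Subgroup.mem_normalizer_iff.1 (hQM hq) (z * x * z⁻¹)).1 h1
    simpa [mul_assoc, mul_inv_rev] using h2
  let f := QuotientGroup.mk' K
  have hf : Function.Surjective f := QuotientGroup.mk'_surjective K
  obtain ⟨k, hk⟩ := ha
  have hZp : IsPGroup p (Z.map f) := by
    rintro ⟨_, z, hz, rfl⟩
    obtain ⟨q, hq, w, hw, rfl⟩ := hdec z
    have hwZ : w ∈ Z := (Subgroup.zpowers_le.2 haZ) hw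
    have hqZ : q ∈ Z := by simpa using Z.mul_mem hz (Z.inv_mem hwZ)
    have hfq : f q = 1 := (QuotientGroup.eq_one_iff q).2 (hZQK ⟨hqZ, hq⟩)
    obtain ⟨i, rfl⟩ := hw
    refine ⟨k, Subtype.ext ?_⟩
    change f (q * a ^ i) ^ p ^ k = 1
    rw [map_mul, hfq, one_mul, map_zpow, ← zpow_natCast, ← zpow_mul, mul_comm, zpow_mul,
      zpow_natCast, ← map_pow, hk, map_one, one_zpow]
  have hac : f a ∈ Cfsg.pCore p (G ⧸ K) :=
    Cores.le_pCore_of_isSubnormal (hZ.map hf) hZp ⟨a, haZ, rfl⟩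
  set P := Q ⊓ (Cfsg.pCore p (G ⧸ K)).comap f with hP
  haveI : (Cfsg.pCore p (G ⧸ K)).Normal := by
    refine ⟨fun n hn g => ?_⟩
    exact Cores.map_pCore_le_of_surjective (MulAut.conj g).toMonoidHom
      (MulAut.conj g).surjective ⟨n, hn, rfl⟩
  haveI hPn : P.Normal := inferInstance
  have hPM : P ≤ M := by
    rcases hmax (M ⊔ P) le_sup_left (sup_le hMQ inf_le_left) (by
      refine (le_inf hQM ?_).trans (normalizer_inf_normalizer_le_normalizer_sup M P)
      rw [normalizer_eq_top_iff.2 hPn]; exact le_top) with h | h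
    · exact le_sup_right.trans h.le
    exfalso
    obtain ⟨y, hyQ, hyc, hyM⟩ := hperf
    haveI : (M.subgroupOf Q).Normal := (normal_subgroupOf_iff_le_normalizer hMQ).2 hQM
    let g := QuotientGroup.mk' (M.subgroupOf Q)
    have hy' : (⟨y, hyQ⟩ : Q) ∈ M.subgroupOf Q ⊔ P.subgroupOf Q := by
      rw [← subgroupOf_sup hMQ inf_le_left, h, subgroupOf_self]; exact Subgroup.mem_top _
    obtain ⟨m, hm, x, hx, hmx⟩ := Subgroup.mem_sup_of_normal_left.1 hy'
    have hgy : g ⟨y, hyQ⟩ = g x := by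
      rw [← hmx, map_mul, show g m = 1 from (QuotientGroup.eq_one_iff m).2 hm]
      exact one_mul _
    obtain ⟨i, hi⟩ := Cores.pCore_isPGroup (G := G ⧸ K) (p := p) ⟨f x, (Subgroup.mem_subgroupOf.1 hx).2⟩
    have hi' : f ((x : G) ^ p ^ i) = 1 := by
      rw [map_pow]
      exact congrArg Subtype.val hi
    have hxM : (x : G) ^ p ^ i ∈ M := Subgroup.normalCore_le M ((QuotientGroup.eq_one_iff _).1 hi')
    have hgx : g x ^ p ^ i = 1 := by
      rw [← map_pow]
      exact (QuotientGroup.eq_one_iff _).2 (by rw [Subgroup.mem_subgroupOf]; simpa using hxM)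
    have : g ⟨y, hyQ⟩ = 1 := by
      refine mem_of_pow_eq_one_coprime (k := i) (hgy ▸ hgx) ?_
      exact hyc.coprime_dvd_left ((orderOf_map_dvd g _).trans (Subgroup.orderOf_mk y hyQ).dvd)
    exact hyM (Subgroup.mem_subgroupOf.1 ((QuotientGroup.eq_one_iff (⟨y, hyQ⟩ : Q)).1 this))
  refine mem_normalizer_of_conj_mem fun m hm => ?_
  have hc : (a * m * a⁻¹) * m⁻¹ ∈ P := by
    refine ⟨Q.mul_mem (hQ.conj_mem m (hMQ hm) a) (Q.inv_mem (hMQ hm)), ?_⟩
    change f (a * m * a⁻¹ * m⁻¹) ∈ Cfsg.pCore p (G ⧸ K)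
    rw [map_mul, map_mul, map_mul, map_inv, map_inv, mul_assoc, mul_assoc, ← mul_assoc (f m)]
    exact Subgroup.mul_mem _ hac
      ((inferInstance : (Cfsg.pCore p (G ⧸ K)).Normal).conj_mem _ (Subgroup.inv_mem _ hac) (f m))
  simpa using M.mul_mem (hPM hc) hm

theorem conj_mem_normalizer_sup (A B : Subgroup G) {g : G}
    (h1 : ∀ x ∈ A, g * x * g⁻¹ ∈ A ⊔ B) (h2 : ∀ x ∈ B, g * x * g⁻¹ ∈ A ⊔ B) :
    ∀ x ∈ A ⊔ B, g * x * g⁻¹ ∈ A ⊔ B := by
  intro x hx
  exact (sup_le (fun y hy => h1 y hy) (fun y hy => h2 y hy) :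
    A ⊔ B ≤ (A ⊔ B).comap (MulAut.conj g).toMonoidHom) hx

/-- A proper subnormal subgroup lies in a proper normal subgroup. -/
theorem exists_normal_between {T Q : Subgroup G} (hT : T.IsSubnormal) (hTQ : T ≤ Q) (hne : T ≠ Q) :
    ∃ M, T ≤ M ∧ M ≤ Q ∧ M ≠ Q ∧ Q ≤ normalizer (M : Set G) := by
  rcases (hT.subgroupOf (K := Q)).lt_normal with h | ⟨M, hM, hTM, hlt⟩
  · exact absurd (le_antisymm hTQ (subgroupOf_eq_top.1 h)) hne
  refine ⟨M.map Q.subtype, ?_, map_subtype_le M, fun e => hlt.ne ?_, ?_⟩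
  · rw [← map_subgroupOf_eq_of_le hTQ]; exact map_mono hTM
  · apply map_injective Q.subtype_injective
    rw [e, ← MonoidHom.range_eq_map, range_subtype]
  · rw [← normal_subgroupOf_iff_le_normalizer (map_subtype_le M)]
    have : (M.map Q.subtype).subgroupOf Q = M := comap_map_eq_self_of_injective Q.subtype_injective M
    rw [this]; exact hM

/-- For `a` a `p`-element of `A`, the conjugates of the `p`-residual of `B` lie in the join. -/
theorem conj_resid_mem [Finite G] [hp : Fact p.Prime] {A B : Subgroup G} (hA : A.IsSubnormal)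
    (hB : B.IsSubnormal) (hne : B ≠ A ⊔ B)
    (ih : ∀ C D : Subgroup G, C.IsSubnormal → D.IsSubnormal →
      Nat.card ↥(C ⊔ D) < Nat.card ↥(A ⊔ B) → resid p (C ⊔ D) ≤ resid p C ⊔ resid p D)
    {a y : G} (haA : a ∈ A) (ha : ∃ k, a ^ p ^ k = 1) (hy : y ∈ resid p B) :
    a * y * a⁻¹ ∈ resid p A ⊔ resid p B := by
  classical
  set J := A ⊔ B with hJ
  obtain ⟨MB, hBMB, hMBJ, hMBne, hJN⟩ := exists_normal_between hB le_sup_right hne
  let Q : Subgroup G := ⨆ z : Subgroup.zpowers a, MulAut.conj (z : G) • resid p B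
  have hzJ : ∀ z ∈ Subgroup.zpowers a, z ∈ J := fun z hz =>
    (le_sup_left : A ≤ A ⊔ B) (Subgroup.zpowers_le.2 haA hz)
  have hQsub : Q.IsSubnormal :=
    SubnormalLib.isSubnormal_iSup fun z => (isSubnormal_resid hB).smul _
  have hmemQ : ∀ z ∈ Subgroup.zpowers a, ∀ w ∈ resid p B, z * w * z⁻¹ ∈ Q := fun z hz w hw =>
    le_iSup (fun z : Subgroup.zpowers a => MulAut.conj (z : G) • resid p B) ⟨z, hz⟩
      ((Subgroup.mem_smul_pointwise_iff_exists _ _ _).2 ⟨w, hw, rfl⟩)
  have hQle : ∀ X : Subgroup G, (∀ z ∈ Subgroup.zpowers a, ∀ w ∈ resid p B, z * w * z⁻¹ ∈ X) →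
      Q ≤ X := fun X h => iSup_le fun z g hg => by
    obtain ⟨w, hw, rfl⟩ := (Subgroup.mem_smul_pointwise_iff_exists _ _ _).1 hg
    exact h _ z.2 w hw
  have hQM : Q ≤ MB := hQle MB fun z hz w hw =>
    (Subgroup.mem_normalizer_iff.1 (hJN (hzJ z hz)) w).1 (hBMB (resid_le B hw))
  have hQperf : Q ≤ resid p Q := by
    refine hQle _ fun z hz w hw => ?_
    have h : resid p B ≤ (resid p Q).comap (MulAut.conj z).toMonoidHom := by
      refine (Subgroup.closure_le _).2 fun x hx => ?_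
      refine mem_resid (hmemQ z hz x (mem_resid hx.1 hx.2)) ?_
      have : orderOf (z * x * z⁻¹) = orderOf x := by rw [← MulAut.conj_apply, MulEquiv.orderOf_eq]
      exact this ▸ hx.2
    exact h hw
  have hyQ : a * y * a⁻¹ ∈ Q := hmemQ a (Subgroup.mem_zpowers a) y hy
  set T := (A ⊓ Q) ⊔ resid p B with hT
  have hTQ : T ≤ Q := sup_le inf_le_right fun w hw => by
    simpa using hmemQ 1 (Subgroup.one_mem _) w hw
  have hTeq : T = Q := by
    by_contra hTne
    obtain ⟨M0, hTM0, hM0⟩ := exists_normal_between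
      (SubnormalLib.isSubnormal_sup (hA.inf hQsub) (isSubnormal_resid hB)) hTQ hTne
    obtain ⟨M, hM0M, hM⟩ := Finite.exists_le_maximal (a := M0)
      (p := fun X : Subgroup G => X ≤ Q ∧ X ≠ Q ∧ Q ≤ normalizer (X : Set G)) hM0
    obtain ⟨hMQ, hMne, hQMn⟩ := hM.1
    have hTM : T ≤ M := hTM0.trans hM0M
    set H := Q ⊔ Subgroup.zpowers a with hH
    have hQH : Q ≤ H := le_sup_left
    have haH : a ∈ H := (le_sup_right : Subgroup.zpowers a ≤ H) (Subgroup.mem_zpowers a)
    have haQ : a ∈ normalizer (Q : Set G) := mem_normalizer_of_conj_mem fun x hx => by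
      have : Q ≤ Q.comap (MulAut.conj a).toMonoidHom := hQle _ fun z hz w hw => by
        have := hmemQ (a * z) (Subgroup.mul_mem _ (Subgroup.mem_zpowers a) hz) w hw
        simpa [mul_assoc] using this
      exact this hx
    haveI : (Q.subgroupOf H).Normal := (normal_subgroupOf_iff_le_normalizer hQH).2
      (sup_le le_normalizer (Subgroup.zpowers_le.2 haQ))
    have hnM : a ∈ normalizer (M : Set G) := by
      have hk : (⟨a, haH⟩ : H) ∈ normalizer ((M.subgroupOf H : Subgroup H) : Set H) := by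
        refine key_aux (p := p) (Q.subgroupOf H) (M.subgroupOf H) (A.subgroupOf H) ⟨a, haH⟩
          ?_ ?_ hA.subgroupOf haA (fun x hx => hMQ hx) ?_ ?_ ?_ ?_
        · obtain ⟨k, hk⟩ := ha; exact ⟨k, Subtype.ext hk⟩
        · apply map_injective H.subtype_injective
          rw [Subgroup.map_sup, map_subgroupOf_eq_of_le hQH, MonoidHom.map_zpowers,
            ← MonoidHom.range_eq_map, range_subtype]
          rfl
        · intro q hq
          rw [Subgroup.mem_normalizer_iff]
          intro x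
          exact Subgroup.mem_normalizer_iff.1 (hQMn hq) (x : G)
        · intro X hMX hXQ hQX
          have hX1 : M ≤ X.map H.subtype := fun m hm => ⟨⟨m, hQH (hMQ hm)⟩, hMX hm, rfl⟩
          have hX2 : X.map H.subtype ≤ Q := by rintro _ ⟨x, hx, rfl⟩; exact hXQ hx
          have hX3 : Q ≤ normalizer ((X.map H.subtype : Subgroup G) : Set G) := fun q hq =>
            mem_normalizer_of_conj_mem fun _ ⟨x, hx, e⟩ => e ▸
              ⟨⟨q, hQH hq⟩ * x * ⟨q, hQH hq⟩⁻¹,
                (Subgroup.mem_normalizer_iff.1 (hQX (show (⟨q, hQH hq⟩ : H) ∈ Q.subgroupOf H from hq)) x).1 hx,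
                rfl⟩
          have hXe : X = (X.map H.subtype).subgroupOf H :=
            (comap_map_eq_self_of_injective H.subtype_injective X).symm
          by_cases h : X.map H.subtype = Q
          · right; rw [hXe, h]
          · left; rw [hXe, le_antisymm (hM.2 ⟨hX2, h, hX3⟩ hX1) hX1]
        · intro x hx
          exact hTM ((le_sup_left : A ⊓ Q ≤ T) (show (x : G) ∈ A ⊓ Q from hx))
        · by_contra hno
          push Not at hno
          apply hMne
          refine le_antisymm hMQ (hQperf.trans ((Subgroup.closure_le _).2 fun x hx => ?_))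
          exact hno ⟨x, hQH hx.1⟩ hx.1 (by rw [Subgroup.orderOf_mk]; exact hx.2)
      refine mem_normalizer_of_conj_mem fun m hm => ?_
      exact (Subgroup.mem_normalizer_iff.1 hk ⟨m, hQH (hMQ hm)⟩).1 hm
    exact hMne (le_antisymm hMQ (hQle M fun z hz w hw =>
      (Subgroup.mem_normalizer_iff.1 (Subgroup.zpowers_le.2 hnM hz) w).1
        (hTM ((le_sup_right : resid p B ≤ T) hw))))
  have hcard : Nat.card ↥T < Nat.card ↥J := by
    rw [hTeq]
    refine lt_of_le_of_ne (card_le_of_le (hQM.trans hMBJ)) fun e => hMBne ?_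
    exact le_antisymm hMBJ ((eq_of_le_of_card_ge (hQM.trans hMBJ) e.ge).ge.trans hQM)
  have h1 : Q ≤ resid p (A ⊓ Q) ⊔ resid p (resid p B) := by
    refine hQperf.trans ?_
    exact (resid_mono hTeq.ge).trans (ih _ _ (hA.inf hQsub) (isSubnormal_resid hB) hcard)
  exact sup_le_sup (resid_mono inf_le_left) (resid_le _) (h1 hyQ)

theorem resid_sup_aux [Finite G] [hp : Fact p.Prime] : ∀ (n : ℕ) (A B : Subgroup G),
    A.IsSubnormal → B.IsSubnormal → Nat.card ↥(A ⊔ B) ≤ n →
      resid p (A ⊔ B) ≤ resid p A ⊔ resid p B := by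
  intro n
  induction n using Nat.strong_induction_on with
  | _ n ih =>
    intro A B hA hB hn
    by_cases hAe : A = A ⊔ B
    · rw [← hAe]; exact le_sup_left
    by_cases hBe : B = A ⊔ B
    · rw [← hBe]; exact le_sup_right
    set L := resid p A ⊔ resid p B with hL
    set J := A ⊔ B with hJ
    have ih' : ∀ C D : Subgroup G, C.IsSubnormal → D.IsSubnormal →
        Nat.card ↥(C ⊔ D) < Nat.card ↥(A ⊔ B) → resid p (C ⊔ D) ≤ resid p C ⊔ resid p D :=
      fun C D hC hD hlt => ih _ (hlt.trans_le hn) C D hC hD le_rfl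
    have step : ∀ (X Y : Subgroup G), (∀ (a y : G), a ∈ X → (∃ k, a ^ p ^ k = 1) →
        y ∈ resid p Y → a * y * a⁻¹ ∈ resid p X ⊔ resid p Y) →
        X ≤ normalizer ((resid p X ⊔ resid p Y : Subgroup G) : Set G) := by
      intro X Y hXY x hx
      obtain ⟨m, q, hc, hpe, hco⟩ := exists_pow_split (p := p) x
      refine mem_of_pow_coprime hc ?_ ?_
      · refine mem_normalizer_of_conj_mem (conj_mem_normalizer_sup _ _ ?_ ?_)
        · exact fun y hy => (le_sup_left : resid p X ≤ resid p X ⊔ resid p Y) (resid_conj_mem (X.pow_mem hx m) hy)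
        · exact fun y hy => hXY _ y (X.pow_mem hx m) hpe hy
      · exact le_normalizer ((le_sup_left : resid p X ≤ resid p X ⊔ resid p Y) (mem_resid (X.pow_mem hx q) hco))
    have hAn : A ≤ normalizer (L : Set G) :=
      step A B fun a y ha hk hy => conj_resid_mem hA hB hBe ih' ha hk hy
    have hBn : B ≤ normalizer (L : Set G) := by
      have := step B A fun a y ha hk hy => conj_resid_mem hB hA
        (by rwa [sup_comm]) (fun C D hC hD h => ih' C D hC hD (by rwa [sup_comm B A] at h)) ha hk hy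
      rwa [sup_comm] at this
    have hLJ : L ≤ J := sup_le_sup (resid_le A) (resid_le B)
    haveI : (L.subgroupOf J).Normal :=
      (normal_subgroupOf_iff_le_normalizer hLJ).2 (sup_le hAn hBn)
    let f := QuotientGroup.mk' (L.subgroupOf J)
    have hsub : ∀ X : Subgroup G, X.IsSubnormal → resid p X ≤ L →
        (X.subgroupOf J).map f ≤ Cfsg.pCore p (↥J ⧸ L.subgroupOf J) := by
      intro X hX hXL
      refine Cores.le_pCore_of_isSubnormal (hX.subgroupOf.map (QuotientGroup.mk'_surjective _)) ?_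
      rintro ⟨_, x, hx, rfl⟩
      refine ⟨(orderOf (x : G)).factorization p, Subtype.ext ?_⟩
      change f x ^ p ^ _ = 1
      rw [← map_pow]
      refine (QuotientGroup.eq_one_iff _).2 (Subgroup.mem_subgroupOf.2 (hXL ?_))
      rw [SubgroupClass.coe_pow]
      refine mem_resid (X.pow_mem hx _) ?_
      rw [orderOf_pow' _ (pow_ne_zero _ hp.1.ne_zero),
        Nat.gcd_eq_right (Nat.ordProj_dvd (orderOf (x : G)) p)]
      exact (Nat.coprime_ordCompl hp.1 (orderOf_pos _).ne').symm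
    have htop : Cfsg.pCore p (↥J ⧸ L.subgroupOf J) = ⊤ := by
      rw [eq_top_iff, ← map_top_of_surjective f (QuotientGroup.mk'_surjective _),
        ← subgroupOf_self J]
      change ((A ⊔ B).subgroupOf (A ⊔ B)).map f ≤ _
      rw [subgroupOf_sup le_sup_left le_sup_right, Subgroup.map_sup]
      exact sup_le (hsub A hA le_sup_left) (hsub B hB le_sup_right)
    refine (Subgroup.closure_le _).2 fun x hx => ?_
    obtain ⟨k, hk⟩ := Cores.pCore_isPGroup (G := ↥J ⧸ L.subgroupOf J) (p := p)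
      ⟨f ⟨x, hx.1⟩, htop ▸ Subgroup.mem_top _⟩
    have : f ⟨x, hx.1⟩ = 1 := mem_of_pow_eq_one_coprime (congrArg Subtype.val hk)
      (hx.2.coprime_dvd_left ((orderOf_map_dvd f _).trans (Subgroup.orderOf_mk x hx.1).dvd))
    exact Subgroup.mem_subgroupOf.1 ((QuotientGroup.eq_one_iff _).1 this)

/-- The `p`-residual of a join of subnormal subgroups is the join of the residuals. -/
theorem resid_sup [Finite G] [Fact p.Prime] {A B : Subgroup G} (hA : A.IsSubnormal)
    (hB : B.IsSubnormal) : resid p (A ⊔ B) = resid p A ⊔ resid p B :=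
  le_antisymm (resid_sup_aux _ A B hA hB le_rfl)
    (sup_le (resid_mono le_sup_left) (resid_mono le_sup_right))

end Cfsg.Agent.LAE62
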