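import Cfsg.Agent.LAE62.SubnormalJoin

/-!
The Sylow intersection of a join of two subnormal subgroups.
-/

set_option autoImplicit false

open Subgroup Pointwise

namespace Cfsg.Agent.LAE62

universe u

variable {G : Type u} [Group G] {p : ℕ}

theorem card_inf_sylow_of_isSubnormal [Finite G] [Fact p.Prime] {H : Subgroup G}
    (hH : H.IsSubnormal) (S : Sylow p G) :
    Nat.card ↥((S : Subgroup G) ⊓ H) = p ^ (Nat.card H).factorization p := by
  obtain ⟨Q, hQ⟩ := SubnormalLib.exists_sylow_inf hH S
  rw [← Q.card_eq_multiplicity, hQ, ← Subgroup.inf_subgroupOf_right (S : Subgroup G) H]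
  exact (Nat.card_congr (subgroupOfEquivOfLe inf_le_right).toEquiv).symm

/-- A subgroup containing the elements of order prime to `p` and a Sylow subgroup is everything. -/
theorem eq_top_of_coprime_sylow [Finite G] [hp : Fact p.Prime] (U : Subgroup G) (P : Sylow p G)
    (hU : ∀ g : G, (orderOf g).Coprime p → g ∈ U) (hP : (P : Subgroup G) ≤ U) : U = ⊤ := by
  have h1 : Cfsg.pResidual p G ≤ U := (Subgroup.closure_le _).2 hU
  obtain ⟨k, hk⟩ := (Cores.isPGroup_quotient_pResidual (G := G) (p := p)).exists_card_eq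
  have h2 : U.index ∣ p ^ k := by
    rw [← hk, ← Subgroup.index_eq_card]
    exact Subgroup.index_dvd_of_le h1
  rw [← Subgroup.index_eq_one]
  obtain ⟨i, -, hi⟩ := (Nat.dvd_prime_pow hp.1).1 h2
  cases i with
  | zero => simpa using hi
  | succ j =>
    exfalso
    apply P.not_dvd_index
    exact (hi ▸ dvd_pow_self p (Nat.succ_ne_zero j)).trans (Subgroup.index_dvd_of_le hP)

theorem le_resid_sup_inf_sylow [Finite G] [Fact p.Prime] {A : Subgroup G} (hA : A.IsSubnormal)
    (S : Sylow p G) : A ≤ resid p A ⊔ (A ⊓ (S : Subgroup G)) := by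
  obtain ⟨P, hP⟩ := SubnormalLib.exists_sylow_inf hA S
  intro x hx
  have h := eq_top_of_coprime_sylow ((resid p A ⊔ (A ⊓ (S : Subgroup G))).subgroupOf A) P
    (fun g hg => Subgroup.mem_subgroupOf.2 <| Subgroup.mem_sup_left <|
      mem_resid g.2 (by rwa [Subgroup.orderOf_coe]))
    (fun g hg => Subgroup.mem_subgroupOf.2 <| Subgroup.mem_sup_right
      ⟨g.2, Subgroup.mem_subgroupOf.1 (show g ∈ (S : Subgroup G).subgroupOf A from hP ▸ hg)⟩)
  have : (⟨x, hx⟩ : A) ∈ (resid p A ⊔ (A ⊓ (S : Subgroup G))).subgroupOf A :=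
    h ▸ Subgroup.mem_top _
  exact Subgroup.mem_subgroupOf.1 this

/-- Images of Sylow intersections with subnormal subgroups. -/
theorem map_inf_sylow [Finite G] [Fact p.Prime] {H : Type*} [Group H] [Finite H] {f : G →* H}
    (hf : Function.Surjective f) {A : Subgroup G} (hA : A.IsSubnormal) (S : Sylow p G) :
    A.map f ⊓ (S : Subgroup G).map f ≤ (A ⊓ (S : Subgroup G)).map f := by
  obtain ⟨P, hP⟩ := SubnormalLib.exists_sylow_inf hA S
  let P' := P.mapSurjective (f.subgroupMap_surjective A)
  intro y hy
  have hle : (P' : Subgroup ↥(A.map f)) ≤ ((S : Subgroup G).map f).subgroupOf (A.map f) := by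
    rintro _ ⟨a, ha, rfl⟩
    exact ⟨a, Subgroup.mem_subgroupOf.1 (show a ∈ (S : Subgroup G).subgroupOf A from hP ▸ ha), rfl⟩
  have heq := P'.3 ((S.2.map f).comap_of_injective _ (A.map f).subtype_injective) hle
  have hy' : (⟨y, hy.1⟩ : A.map f) ∈ (P' : Subgroup ↥(A.map f)) :=
    (SetLike.ext_iff.1 heq _).1 hy.2
  obtain ⟨a, ha, hay⟩ := hy'
  exact ⟨a, ⟨a.2, Subgroup.mem_subgroupOf.1
    (show a ∈ (S : Subgroup G).subgroupOf A from hP ▸ ha)⟩, congrArg Subtype.val hay⟩

theorem conj_mem_sup_of_minNormal [Finite G] {A B N : Subgroup G} [hN : N.Normal]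
    (hA : N ≤ normalizer (A : Set G)) {a : G} (ha : a ∈ A) :
    ∀ x ∈ (N ⊓ A) ⊔ (N ⊓ B), a * x * a⁻¹ ∈ (N ⊓ A) ⊔ (N ⊓ B) := by
  refine conj_mem_normalizer_sup _ _ ?_ ?_
  · exact fun x hx => Subgroup.mem_sup_left
      ⟨hN.conj_mem x hx.1 a, A.mul_mem (A.mul_mem ha hx.2) (A.inv_mem ha)⟩
  · intro x hx
    have h1 : a * (x * a⁻¹ * x⁻¹) ∈ N ⊓ A := by
      refine ⟨?_, A.mul_mem ha ((Subgroup.mem_normalizer_iff.1 (hA hx.1) a⁻¹).1 (A.inv_mem ha))⟩
      have := N.mul_mem (hN.conj_mem x hx.1 a) (N.inv_mem hx.1)
      simpa [mul_assoc] using this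
    have := Subgroup.mul_mem _ (Subgroup.mem_sup_left (T := N ⊓ B) h1)
      (Subgroup.mem_sup_right (S := N ⊓ A) hx)
    simpa [mul_assoc] using this

theorem sylow_join_aux : ∀ (n : ℕ) (X : Type u) [Group X] [Finite X], Nat.card X ≤ n →
    ∀ (p : ℕ) [Fact p.Prime] (S : Sylow p X) (A B : Subgroup X), A.IsSubnormal → B.IsSubnormal →
      A ⊔ B = ⊤ → (S : Subgroup X) ≤ (A ⊓ (S : Subgroup X)) ⊔ (B ⊓ (S : Subgroup X)) := by
  intro n
  induction n using Nat.strong_induction_on with
  | _ n ih =>
    intro X _ _ hn p _ S A B hA hB hAB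
    classical
    set R := (A ⊓ (S : Subgroup X)) ⊔ (B ⊓ (S : Subgroup X)) with hR
    have hRS : R ≤ S := sup_le inf_le_right inf_le_right
    by_cases hL : resid p A ⊔ resid p B = ⊤
    · -- the generators of order prime to `p` generate
      by_cases htriv : (⊤ : Subgroup X) = ⊥
      · exact le_top.trans (htriv.le.trans bot_le)
      obtain ⟨N, hN, -⟩ := SubnormalLib.exists_minNormal_le (N := (⊤ : Subgroup X)) inferInstance htriv
      haveI hNn := hN.1
      have hSN : (S : Subgroup X) ≤ R ⊔ N := by
        let f := QuotientGroup.mk' N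
        have hf : Function.Surjective f := QuotientGroup.mk'_surjective N
        have hsmall : Nat.card (X ⧸ N) < n := by
          have h1 := Subgroup.card_eq_card_quotient_mul_card_subgroup N
          have h2 : 2 ≤ Nat.card N := (Subgroup.one_lt_card_iff_ne_bot N).2 hN.2.1
          have h3 : 0 < Nat.card (X ⧸ N) := Nat.card_pos
          nlinarith
        have h := ih _ hsmall (X ⧸ N) le_rfl p (S.mapSurjective hf) _ _ (hA.map hf) (hB.map hf)
          (by rw [← Subgroup.map_sup, hAB, map_top_of_surjective f hf])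
        rw [Sylow.coe_mapSurjective] at h
        have h' : (S : Subgroup X).map f ≤ R.map f := h.trans (by
          rw [hR, Subgroup.map_sup]
          exact sup_le_sup (map_inf_sylow hf hA S) (map_inf_sylow hf hB S))
        rw [map_le_iff_le_comap, comap_map_eq, QuotientGroup.ker_mk'] at h'
        exact h'
      suffices hNR : (S : Subgroup X) ⊓ N ≤ R by
        intro s hs
        obtain ⟨r, hr, m, hm, rfl⟩ := Subgroup.mem_sup_of_normal_right.1 (hSN hs)
        refine R.mul_mem hr (hNR ⟨?_, hm⟩)
        have := (S : Subgroup X).mul_mem ((S : Subgroup X).inv_mem (hRS hr)) hs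
        rwa [inv_mul_cancel_left] at this
      have hNA := SubnormalLib.minNormal_le_normalizer hN hA
      have hNB := SubnormalLib.minNormal_le_normalizer hN hB
      set Y := (N ⊓ A) ⊔ (N ⊓ B) with hY
      have hYn : Y.Normal := by
        refine normalizer_eq_top_iff.1 (top_le_iff.1 (hAB ▸ sup_le ?_ ?_))
        · exact fun a ha => mem_normalizer_of_conj_mem (conj_mem_sup_of_minNormal hNA ha)
        · intro a ha
          refine mem_normalizer_of_conj_mem ?_
          rw [hY, sup_comm]
          exact conj_mem_sup_of_minNormal hNB ha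
      rcases hN.2.2 Y hYn (sup_le inf_le_left inf_le_left) with hYb | hYN
      · -- `N` is central of prime order
        obtain ⟨hA0, hB0⟩ := sup_eq_bot_iff.1 hYb
        have hcent : N ≤ Subgroup.center X := by
          intro m hm
          rw [Subgroup.mem_center_iff]
          have key : ∀ (C : Subgroup X), N ≤ normalizer (C : Set X) → N ⊓ C = ⊥ →
              C ≤ Subgroup.centralizer ({m} : Set X) := by
            intro C hC h0 c hc
            have h1 : c * (m * c⁻¹ * m⁻¹) ∈ N ⊓ C := by
              refine ⟨?_, C.mul_mem hc ((Subgroup.mem_normalizer_iff.1 (hC hm) c⁻¹).1 (C.inv_mem hc))⟩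
              have := N.mul_mem (hNn.conj_mem m hm c) (N.inv_mem hm)
              simpa [mul_assoc] using this
            rw [h0, Subgroup.mem_bot] at h1
            rw [Subgroup.mem_centralizer_singleton_iff]
            have h2 : c * m * c⁻¹ = m := by
              calc c * m * c⁻¹ = (c * (m * c⁻¹ * m⁻¹)) * m := by simp [mul_assoc]
                _ = m := by rw [h1, one_mul]
            calc c * m = (c * m * c⁻¹) * c := by simp [mul_assoc]
              _ = m * c := by rw [h2]
          intro g
          have hAC := sup_le (key A hNA hA0) (key B hNB hB0)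
          rw [hAB] at hAC
          have : g ∈ Subgroup.centralizer ({m} : Set X) := hAC (Subgroup.mem_top g)
          exact Subgroup.mem_centralizer_singleton_iff.1 this
        intro m hm
        haveI : (R.subgroupOf (S : Subgroup X)).Normal := by
          refine (normal_subgroupOf_iff_le_normalizer hRS).2 (hSN.trans (sup_le le_normalizer ?_))
          intro c hc
          refine mem_normalizer_of_conj_mem fun x hx => ?_
          rwa [← Subgroup.mem_center_iff.1 (hcent hc) x, mul_inv_cancel_right]
        let φ := QuotientGroup.mk' (R.subgroupOf (S : Subgroup X))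
        have hgen : ∀ s : (S : Subgroup X), ∃ c : (S : Subgroup X), (c : X) ∈ N ∧ φ s = φ c := by
          intro s
          obtain ⟨r, hr, c, hc, hrc⟩ := Subgroup.mem_sup_of_normal_right.1 (hSN s.2)
          have hcS : c ∈ (S : Subgroup X) := by
            have := (S : Subgroup X).mul_mem ((S : Subgroup X).inv_mem (hRS hr)) s.2
            rwa [← hrc, inv_mul_cancel_left] at this
          refine ⟨⟨c, hcS⟩, hc, ?_⟩
          rw [show s = ⟨r, hRS hr⟩ * ⟨c, hcS⟩ from Subtype.ext hrc.symm, map_mul,
            show φ ⟨r, hRS hr⟩ = 1 from (QuotientGroup.eq_one_iff _).2 hr, one_mul]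
        letI : CommGroup (↥(S : Subgroup X) ⧸ R.subgroupOf (S : Subgroup X)) :=
          { (inferInstance : Group (↥(S : Subgroup X) ⧸ R.subgroupOf (S : Subgroup X))) with
            mul_comm := fun x y => by
              obtain ⟨s, rfl⟩ := QuotientGroup.mk'_surjective _ x
              obtain ⟨t, rfl⟩ := QuotientGroup.mk'_surjective _ y
              obtain ⟨c, hc, e⟩ := hgen s
              change φ s * φ t = φ t * φ s
              rw [e, ← map_mul, ← map_mul]
              congr 1
              exact Subtype.ext (Subgroup.mem_center_iff.1 (hcent hc) (t : X)).symm }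
        have hkey : ∀ (k : ℕ) (g₀ : X), g₀⁻¹ * m ^ k * g₀ ∈ (S : Subgroup X) →
            g₀⁻¹ * m ^ k * g₀ = m ^ k := fun k g₀ _ => by
          rw [mul_assoc, ← Subgroup.mem_center_iff.1 (Subgroup.pow_mem _ (hcent hm.2) k) g₀,
            inv_mul_cancel_left]
        have htr := MonoidHom.transfer_eq_pow φ m hkey
        have hone : MonoidHom.transfer φ m = 1 := by
          have : (⊤ : Subgroup X) ≤ (MonoidHom.transfer φ).ker := by
            rw [← hL]
            refine sup_le ((Subgroup.closure_le _).2 ?_) ((Subgroup.closure_le _).2 ?_) <;>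
            · intro g hg
              rw [SetLike.mem_coe, MonoidHom.mem_ker]
              obtain ⟨k, hk⟩ := (S.2.to_quotient (R.subgroupOf (S : Subgroup X)))
                (MonoidHom.transfer φ g)
              exact mem_of_pow_eq_one_coprime hk (hg.2.coprime_dvd_left (orderOf_map_dvd _ g))
          exact MonoidHom.mem_ker.1 (this (Subgroup.mem_top m))
        rw [hone] at htr
        have h2 : φ ⟨m, hm.1⟩ ^ (S : Subgroup X).index = 1 := by
          rw [← map_pow]
          exact htr.symm
        have h3 : φ ⟨m, hm.1⟩ = 1 := by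
          obtain ⟨k, hk⟩ := (S.2.to_quotient (R.subgroupOf (S : Subgroup X))) (φ ⟨m, hm.1⟩)
          refine mem_of_pow_eq_one_coprime hk (Nat.Coprime.coprime_dvd_left
            (orderOf_dvd_of_pow_eq_one h2) ?_)
          exact ((Fact.out : p.Prime).coprime_iff_not_dvd.2 S.not_dvd_index).symm
        exact Subgroup.mem_subgroupOf.1 ((QuotientGroup.eq_one_iff _).1 h3)
      · -- `N` is the product of its intersections
        set S₁ := (S : Subgroup X) ⊓ (N ⊓ A) with hS₁
        set S₂ := (S : Subgroup X) ⊓ (N ⊓ B) with hS₂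
        have hNsub : N.IsSubnormal := Subgroup.Normal.isSubnormal hNn
        have hle : S₁ ⊔ S₂ ≤ (S : Subgroup X) ⊓ N :=
          sup_le (inf_le_inf_left _ inf_le_left) (inf_le_inf_left _ inf_le_left)
        have hfac : Nat.card N * Nat.card ↥((N ⊓ A) ⊓ (N ⊓ B)) =
            Nat.card ↥(N ⊓ A) * Nat.card ↥(N ⊓ B) := by
          have hnorm : N ⊓ B ≤ normalizer ((N ⊓ A : Subgroup X) : Set X) := by
            intro x hx
            refine mem_normalizer_of_conj_mem fun y hy => ?_
            exact ⟨hNn.conj_mem y hy.1 x, (Subgroup.mem_normalizer_iff.1 (hNA hx.1) y).1 hy.2⟩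
          rw [← natCard_setMul_mul_inf' (N ⊓ A) (N ⊓ B), ← Subgroup.coe_mul_of_right_le_normalizer_left _ _ hnorm,
            ← hY, hYN]
          rfl
        have hex : (Nat.card N).factorization p + (Nat.card ↥((N ⊓ A) ⊓ (N ⊓ B))).factorization p
            = (Nat.card ↥(N ⊓ A)).factorization p + (Nat.card ↥(N ⊓ B)).factorization p := by
          have := congrArg (fun k => k.factorization p) hfac
          rwa [Nat.factorization_mul Nat.card_pos.ne' Nat.card_pos.ne',
            Nat.factorization_mul Nat.card_pos.ne' Nat.card_pos.ne', Finsupp.add_apply,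
            Finsupp.add_apply] at this
        have hcard : Nat.card ↥((S : Subgroup X) ⊓ N) * Nat.card ↥(S₁ ⊓ S₂) =
            Nat.card ↥S₁ * Nat.card ↥S₂ := by
          have e : S₁ ⊓ S₂ = (S : Subgroup X) ⊓ ((N ⊓ A) ⊓ (N ⊓ B)) := by
            rw [hS₁, hS₂]; exact (inf_inf_distrib_left _ _ _).symm
          rw [e, card_inf_sylow_of_isSubnormal hNsub S,
            card_inf_sylow_of_isSubnormal ((hNsub.inf hA).inf (hNsub.inf hB)) S,
            card_inf_sylow_of_isSubnormal (hNsub.inf hA) S,
            card_inf_sylow_of_isSubnormal (hNsub.inf hB) S, ← pow_add, ← pow_add, hex]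
        have hge : Nat.card ↥((S : Subgroup X) ⊓ N) ≤ Nat.card ↥(S₁ ⊔ S₂) := by
          refine Nat.le_of_mul_le_mul_right ?_ (Nat.card_pos (α := ↥(S₁ ⊓ S₂)))
          rw [hcard, ← natCard_setMul_mul_inf']
          refine Nat.mul_le_mul_right _ (Nat.card_mono (Set.toFinite _) ?_)
          rintro _ ⟨a, ha, b, hb, rfl⟩
          exact Subgroup.mul_mem_sup ha hb
        rw [← eq_of_le_of_card_ge hle hge]
        exact sup_le
          ((le_inf (inf_le_right.trans inf_le_right) inf_le_left).trans le_sup_left)
          ((le_inf (inf_le_right.trans inf_le_right) inf_le_left).trans le_sup_right)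
    · -- induction into the proper residual
      set L := resid p A ⊔ resid p B with hLdef
      have hLtop : L = resid p (⊤ : Subgroup X) := by rw [← hAB, resid_sup hA hB]
      haveI : L.Normal := ⟨fun x hx g => by
        rw [hLtop] at hx ⊢
        exact resid_conj_mem (Subgroup.mem_top g) hx⟩
      have hLsub : L.IsSubnormal := Subgroup.Normal.isSubnormal inferInstance
      have hlt : Nat.card L < n := lt_of_lt_of_le
        (lt_of_le_of_ne (Subgroup.card_le_card_group L) fun e => hL (Subgroup.eq_top_of_card_eq L e)) hn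
      obtain ⟨Q, hQ⟩ := SubnormalLib.exists_sylow_inf hLsub S
      have h := ih _ hlt L le_rfl p Q ((resid p A).subgroupOf L) ((resid p B).subgroupOf L)
        (isSubnormal_resid hA).subgroupOf (isSubnormal_resid hB).subgroupOf
        (by rw [← subgroupOf_sup le_sup_left le_sup_right, subgroupOf_self])
      rw [hQ] at h
      have hSL : (S : Subgroup X) ⊓ L ≤ R := by
        intro x hx
        have h2 : (⟨x, hx.2⟩ : L) ∈ _ := h (show (⟨x, hx.2⟩ : L) ∈ (S : Subgroup X).subgroupOf L from hx.1)
        have h3 : x ∈ ((resid p A).subgroupOf L ⊓ (S : Subgroup X).subgroupOf L ⊔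
            (resid p B).subgroupOf L ⊓ (S : Subgroup X).subgroupOf L).map L.subtype :=
          ⟨_, h2, rfl⟩
        refine (le_trans ?_ (sup_le_sup (inf_le_inf_right _ (resid_le (p := p) A))
          (inf_le_inf_right _ (resid_le (p := p) B))) : _ ≤ R) h3
        rw [Subgroup.map_sup]
        exact sup_le_sup (le_inf ((map_mono inf_le_left).trans (map_comap_le _ _))
          ((map_mono inf_le_right).trans (map_comap_le _ _)))
          (le_inf ((map_mono inf_le_left).trans (map_comap_le _ _))
          ((map_mono inf_le_right).trans (map_comap_le _ _)))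
      intro s hs
      have hgen : (⊤ : Subgroup X) ≤ L ⊔ R := by
        rw [← hAB]
        exact sup_le ((le_resid_sup_inf_sylow hA S).trans (sup_le_sup le_sup_left le_sup_left))
          ((le_resid_sup_inf_sylow hB S).trans (sup_le_sup le_sup_right le_sup_right))
      obtain ⟨l, hl, r, hr, rfl⟩ := Subgroup.mem_sup_of_normal_left.1 (hgen (Subgroup.mem_top s))
      refine R.mul_mem (hSL ⟨?_, hl⟩) hr
      have := (S : Subgroup X).mul_mem hs ((S : Subgroup X).inv_mem (hRS hr))
      rwa [mul_inv_cancel_right] at this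

/-- A Sylow subgroup meets the join of two subnormal subgroups in the join of the meets. -/
theorem inf_sylow_sup_of_isSubnormal [Finite G] [Fact p.Prime] (S : Sylow p G)
    {A B : Subgroup G} (hA : A.IsSubnormal) (hB : B.IsSubnormal) :
    (A ⊔ B) ⊓ (S : Subgroup G) = (A ⊓ (S : Subgroup G)) ⊔ (B ⊓ (S : Subgroup G)) := by
  refine le_antisymm ?_ (sup_le (inf_le_inf_right _ le_sup_left) (inf_le_inf_right _ le_sup_right))
  set J := A ⊔ B with hJ
  obtain ⟨Q, hQ⟩ := SubnormalLib.exists_sylow_inf (SubnormalLib.isSubnormal_sup hA hB) S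
  have h := sylow_join_aux _ J le_rfl p Q (A.subgroupOf J) (B.subgroupOf J) hA.subgroupOf
    hB.subgroupOf (by rw [← subgroupOf_sup le_sup_left le_sup_right]; exact subgroupOf_self _)
  rw [hQ] at h
  intro x hx
  have h2 : x ∈ ((A.subgroupOf J) ⊓ (S : Subgroup G).subgroupOf J ⊔
      (B.subgroupOf J) ⊓ (S : Subgroup G).subgroupOf J).map J.subtype :=
    ⟨⟨x, hx.1⟩, h (show (⟨x, hx.1⟩ : J) ∈ (S : Subgroup G).subgroupOf J from hx.2), rfl⟩
  refine (?_ : _ ≤ (A ⊓ (S : Subgroup G)) ⊔ (B ⊓ (S : Subgroup G))) h2
  rw [Subgroup.map_sup]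
  exact sup_le_sup (le_inf ((map_mono inf_le_left).trans (map_comap_le _ _))
    ((map_mono inf_le_right).trans (map_comap_le _ _)))
    (le_inf ((map_mono inf_le_left).trans (map_comap_le _ _))
    ((map_mono inf_le_right).trans (map_comap_le _ _)))

end Cfsg.Agent.LAE62
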