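import Mathlib.GroupTheory.Transfer
import Mathlib.GroupTheory.Abelianization.Defs
import Cfsg.Agent.Cores.Basic
import Cfsg.Agent.LAE62.Isolated
import Cfsg.Agent.LAE62.SylowBasics

/-! A minimal counterexample to the `Z*` statement for a prime `p`. -/

open scoped commutatorElement

namespace Cfsg.Agent.LAE62

variable {G : Type*} [Group G] [Finite G] {p : ℕ} [Fact p.Prime] {x : G}

/-- The hypotheses of a minimal counterexample. -/
structure ZStarMin (p : ℕ) (x : G) : Prop where
  ord : orderOf x = p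
  iso : Cfsg.IsIsolated x
  nz : ¬ Cfsg.InZStar p x
  sub : ∀ (H : Subgroup G) (hxH : x ∈ H), H ≠ ⊤ → Cfsg.InZStar p (⟨x, hxH⟩ : ↥H)
  quot : ∀ (N : Subgroup G) [N.Normal], N ≠ ⊥ → Cfsg.InZStar p (QuotientGroup.mk x : G ⧸ N)

variable (h : ZStarMin p x)
include h

theorem ZStarMin.pPow : ∃ k : ℕ, orderOf x = p ^ k := ⟨1, by rw [h.ord, pow_one]⟩

theorem ZStarMin.core_eq_bot : Cfsg.pPrimeCore p G = ⊥ := by
  by_contra hne
  apply h.nz
  intro g
  have := h.quot (Cfsg.pPrimeCore p G) hne (QuotientGroup.mk g)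
  rw [Cores.pPrimeCore_quotient_pPrimeCore_eq_bot, Subgroup.mem_bot] at this
  exact (QuotientGroup.eq_one_iff _).1 this

theorem ZStarMin.not_central : x ∉ Subgroup.center G := by
  intro hc
  apply h.nz
  intro g
  rw [Subgroup.mem_center_iff.1 hc g, mul_inv_cancel_right, mul_inv_cancel]
  exact one_mem _

/-- A normal `p'`-subgroup of a normal subgroup is trivial. -/
theorem ZStarMin.eq_bot_of_normal_coprime {N R : Subgroup G} [N.Normal] (hRN : R ≤ N)
    (hn : N ≤ Subgroup.normalizer (R : Set G)) (hco : (Nat.card R).Coprime p) : R = ⊥ := by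
  have h1 : (R.subgroupOf N).Normal := (Subgroup.normal_subgroupOf_iff_le_normalizer hRN).2 hn
  have h2 : R.subgroupOf N ≤ Cfsg.pPrimeCore p N := Cores.le_pPrimeCore h1 (by
    rwa [Nat.card_congr (Subgroup.subgroupOfEquivOfLe hRN).toEquiv])
  have h3 : R ≤ Cfsg.pPrimeCore p G := by
    rw [← Subgroup.map_subgroupOf_eq_of_le hRN]
    exact (Subgroup.map_mono h2).trans (Cores.map_subtype_pPrimeCore_le)
  rwa [h.core_eq_bot, le_bot_iff] at h3

theorem ZStarMin.not_mem_normal {C : Subgroup G} [C.Normal] (hC : C ≠ ⊤) : x ∉ C := by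
  intro hxC
  have hz := h.sub C hxC hC
  have hbot : Cfsg.pPrimeCore p C = ⊥ := by
    have : (Cfsg.pPrimeCore p C).map C.subtype ≤ ⊥ :=
      h.core_eq_bot ▸ Cores.map_subtype_pPrimeCore_le
    rwa [le_bot_iff, Subgroup.map_eq_bot_iff_of_injective _ C.subtype_injective] at this
  apply h.not_central
  rw [Subgroup.mem_center_iff]
  intro g
  have hy : g * x * g⁻¹ ∈ C := (inferInstance : C.Normal).conj_mem x hxC g
  have hc := hz ⟨_, hy⟩
  rw [hbot, Subgroup.mem_bot] at hc
  have hc' : (g * x * g⁻¹) * x * (g * x * g⁻¹)⁻¹ * x⁻¹ = 1 := congrArg Subtype.val hc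
  have := h.iso g (by
    rw [commute_iff_eq]
    exact (mul_inv_eq_iff_eq_mul.1 (mul_inv_eq_one.1 hc')).symm)
  exact mul_inv_eq_iff_eq_mul.1 this

/-- `x` centralizes no nontrivial normal subgroup. -/
theorem ZStarMin.not_le_centralizer {N : Subgroup G} [hN : N.Normal] (hN0 : N ≠ ⊥) :
    ¬ N ≤ Subgroup.centralizer ({x} : Set G) := by
  intro hNx
  have hxC : x ∈ Subgroup.centralizer (N : Set G) := fun n hn =>
    Subgroup.mem_centralizer_singleton_iff.1 (hNx hn)
  by_cases hC : Subgroup.centralizer (N : Set G) = ⊤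
  swap
  · exact h.not_mem_normal hC hxC
  -- `N` is central and a `p`-group
  have hcen : ∀ n ∈ N, ∀ g : G, n * g = g * n := fun n hn g =>
    Subgroup.mem_centralizer_iff.1 (hC ▸ Subgroup.mem_top g : g ∈ Subgroup.centralizer (N : Set G)) n hn
  have hNp : IsPGroup p N := by
    intro n
    obtain ⟨k, m, hm, hkm⟩ := Nat.exists_eq_pow_mul_and_not_dvd (orderOf_pos (n : G)).ne' p (Fact.out : p.Prime).ne_one
    have hR : Subgroup.zpowers ((n : G) ^ p ^ k) = ⊥ := by
      refine h.eq_bot_of_normal_coprime (N := N) (Subgroup.zpowers_le.2 (N.pow_mem n.2 _)) ?_ ?_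
      · refine le_trans (fun a ha => ?_) (Subgroup.centralizer_le_normalizer _)
        exact fun b hb => hcen b (Subgroup.zpowers_le.2 (N.pow_mem n.2 _) hb) a
      · rw [Nat.card_zpowers, orderOf_pow_of_dvd (pow_ne_zero _ (Fact.out : p.Prime).ne_zero) (hkm ▸ dvd_mul_right _ _),
          hkm, Nat.mul_div_cancel_left _ (pow_pos (Fact.out : p.Prime).pos k)]
        exact Cores.coprime_iff_not_dvd_prime Fact.out |>.2 hm
    rw [Subgroup.zpowers_eq_bot] at hR
    exact ⟨k, Subtype.ext hR⟩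
  set K := (Cfsg.pPrimeCore p (G ⧸ N)).comap (QuotientGroup.mk' N) with hK
  have hNK : N ≤ K := fun n hn => by
    show QuotientGroup.mk' N n ∈ Cfsg.pPrimeCore p (G ⧸ N)
    rw [QuotientGroup.mk'_apply, (QuotientGroup.eq_one_iff (N := N) n).2 hn]; exact one_mem _
  have hidx : ¬ p ∣ (N.subgroupOf K).index := by
    have hmap : K.map (QuotientGroup.mk' N) = Cfsg.pPrimeCore p (G ⧸ N) :=
      Subgroup.map_comap_eq_self_of_surjective (QuotientGroup.mk'_surjective N) _
    have e : (N.subgroupOf K).index = Nat.card (Cfsg.pPrimeCore p (G ⧸ N)) := by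
      rw [← hmap, ← MonoidHom.domRestrict_range, ← Subgroup.index_ker, MonoidHom.ker_domRestrict,
        QuotientGroup.ker_mk']
    rw [e]
    exact (Cores.coprime_iff_not_dvd_prime Fact.out).1 Cores.pPrimeCore_coprime
  have hNKp : IsPGroup p (N.subgroupOf K) := hNp.comap_of_injective K.subtype K.subtype_injective
  let P : Sylow p K := hNKp.toSylow hidx
  have hP : (P : Subgroup K) = N.subgroupOf K := IsPGroup.toSylow_coe hNKp hidx
  have hNC : Subgroup.normalizer ((P : Subgroup K) : Set K) ≤ Subgroup.centralizer ((P : Subgroup K) : Set K) := by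
    intro a _ b hb
    rw [hP] at hb
    exact Subtype.ext (hcen _ hb a)
  have hker : (MonoidHom.transferSylow P hNC).ker = ⊥ := by
    have h1 := Cores.le_pPrimeCore_of_not_dvd (p := p) (inferInstance : (MonoidHom.transferSylow P hNC).ker.Normal)
      (MonoidHom.not_dvd_card_ker_transferSylow P hNC)
    have h2 : (Cfsg.pPrimeCore p K).map K.subtype ≤ ⊥ := h.core_eq_bot ▸ Cores.map_subtype_pPrimeCore_le
    rw [le_bot_iff, Subgroup.map_eq_bot_iff_of_injective _ K.subtype_injective] at h2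
    exact le_bot_iff.1 (h2 ▸ h1)
  have hc := MonoidHom.ker_transferSylow_isComplement' P hNC
  rw [hker, Subgroup.isComplement'_bot_left, hP, Subgroup.subgroupOf_eq_top] at hc
  -- so conjugates of `x` commute with `x`
  apply h.not_central
  rw [Subgroup.mem_center_iff]
  intro g
  have hgK : g * x * g⁻¹ * x⁻¹ ∈ N := hc (h.quot N hN0 (QuotientGroup.mk g))
  have := h.iso g (by
    have h1 : Commute x (g * x * g⁻¹ * x⁻¹) := (hcen _ hgK x).symm
    have := h1.mul_right (Commute.refl x)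
    rwa [inv_mul_cancel_right] at this)
  exact mul_inv_eq_iff_eq_mul.1 this

theorem ZStarMin.sup_eq_top {N : Subgroup G} [hN : N.Normal] (hN0 : N ≠ ⊥) :
    N ⊔ Subgroup.zpowers x = ⊤ := by
  by_contra hM
  apply h.not_le_centralizer hN0
  intro n hn
  set M := N ⊔ Subgroup.zpowers x with hMdef
  have hxM : x ∈ M := Subgroup.mem_sup_right (Subgroup.mem_zpowers x)
  have hz := h.sub M hxM hM ⟨n, Subgroup.mem_sup_left hn⟩
  set R := (Cfsg.pPrimeCore p M).map M.subtype with hR
  have hR0 : R ⊓ N = ⊥ := by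
    refine h.eq_bot_of_normal_coprime (N := N) inf_le_right (fun a ha => ?_) ?_
    · refine mem_normalizer_of_conj_mem fun r hr => ⟨?_, hN.conj_mem r hr.2 a⟩
      obtain ⟨r', hr', hrr⟩ := hr.1
      refine ⟨⟨a, Subgroup.mem_sup_left ha⟩ * r' * ⟨a, Subgroup.mem_sup_left ha⟩⁻¹,
        (inferInstance : (Cfsg.pPrimeCore p M).Normal).conj_mem r' hr' _, ?_⟩
      rw [← hrr]; rfl
    · refine Nat.Coprime.coprime_dvd_left (Subgroup.card_dvd_of_le inf_le_left) ?_
      rw [hR, Subgroup.card_map_of_injective M.subtype_injective]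
      exact Cores.pPrimeCore_coprime
  have hmem : n * x * n⁻¹ * x⁻¹ ∈ R ⊓ N := by
    refine ⟨⟨_, hz, rfl⟩, ?_⟩
    have : n * x * n⁻¹ * x⁻¹ = n * (x * n⁻¹ * x⁻¹) := by group
    rw [this]
    exact N.mul_mem hn (hN.conj_mem _ (N.inv_mem hn) x)
  rw [hR0, Subgroup.mem_bot] at hmem
  exact conj_eq_self_iff.1 (mul_inv_eq_one.1 hmem)

theorem ZStarMin.commutator_le {N : Subgroup G} [N.Normal] (hN0 : N ≠ ⊥) : commutator G ≤ N := by
  have hgen : ∀ a : G, ∃ i : ℤ, (QuotientGroup.mk a : G ⧸ N) = (QuotientGroup.mk x : G ⧸ N) ^ i := by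
    intro a
    obtain ⟨n, hn, w, hw, rfl⟩ := Subgroup.mem_sup_of_normal_left.1 (h.sup_eq_top hN0 ▸ Subgroup.mem_top a)
    obtain ⟨i, rfl⟩ := Subgroup.mem_zpowers_iff.1 hw
    exact ⟨i, by rw [QuotientGroup.mk_mul, (QuotientGroup.eq_one_iff (N := N) n).2 hn, one_mul, QuotientGroup.mk_zpow]⟩
  rw [commutator_def, Subgroup.commutator_le]
  intro a _ b _
  refine (QuotientGroup.eq_one_iff _).1 ?_
  obtain ⟨i, hi⟩ := hgen a
  obtain ⟨j, hj⟩ := hgen b
  rw [← QuotientGroup.mk'_apply, map_commutatorElement, commutatorElement_eq_one_iff_mul_comm,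
    QuotientGroup.mk'_apply, QuotientGroup.mk'_apply, hi, hj, ← zpow_add, ← zpow_add, add_comm]

theorem ZStarMin.commutator_ne_bot : commutator G ≠ ⊥ := by
  intro e
  apply h.not_central
  rw [Subgroup.mem_center_iff]
  intro g
  rw [← commutatorElement_eq_one_iff_mul_comm, ← Subgroup.mem_bot, ← e]
  exact Subgroup.commutator_mem_commutator (Subgroup.mem_top g) (Subgroup.mem_top x)

theorem ZStarMin.commutator_sup : commutator G ⊔ Subgroup.zpowers x = ⊤ := h.sup_eq_top h.commutator_ne_bot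

theorem ZStarMin.commutator_nonabelian : ¬ IsMulCommutative ↥(commutator G) := by
  intro hab
  have hp : p.Prime := Fact.out
  have hcomm : ∀ a ∈ commutator G, ∀ b ∈ commutator G, Commute a b := fun a ha b hb =>
    congrArg Subtype.val (hab.is_comm.comm (⟨a, ha⟩ : commutator G) (⟨b, hb⟩ : commutator G))
  let Ω : Subgroup G :=
    { carrier := {a | a ∈ commutator G ∧ a ^ p = 1}
      one_mem' := ⟨one_mem _, one_pow p⟩
      mul_mem' := fun {a b} ha hb => ⟨mul_mem ha.1 hb.1, by rw [(hcomm a ha.1 b hb.1).mul_pow, ha.2, hb.2, one_mul]⟩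
      inv_mem' := fun {a} ha => ⟨inv_mem ha.1, by rw [inv_pow, ha.2, inv_one]⟩ }
  haveI : Ω.Normal := ⟨fun a ha g => ⟨(inferInstance : (commutator G).Normal).conj_mem a ha.1 g, by
    rw [← MulAut.conj_apply, ← map_pow, ha.2, map_one]⟩⟩
  have hdvd : p ∣ Nat.card (commutator G) := by
    by_contra hnd
    exact h.commutator_ne_bot (h.eq_bot_of_normal_coprime (N := commutator G) le_rfl Subgroup.le_normalizer
      ((Cores.coprime_iff_not_dvd_prime hp).2 hnd))
  obtain ⟨u, hu⟩ := exists_prime_orderOf_dvd_card' p hdvd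
  have hΩ0 : Ω ≠ ⊥ := fun e => by
    have : (u : G) ∈ Ω := ⟨u.2, by
      rw [← SubmonoidClass.coe_pow, ← hu, pow_orderOf_eq_one, OneMemClass.coe_one]⟩
    rw [e, Subgroup.mem_bot] at this
    rw [show u = 1 from Subtype.ext this, orderOf_one] at hu
    exact hp.one_lt.ne hu
  have hle := h.commutator_le hΩ0
  have hGp : IsPGroup p G := by
    intro a
    obtain ⟨n, hn, w, hw, rfl⟩ := Subgroup.mem_sup_of_normal_left.1 (h.commutator_sup ▸ Subgroup.mem_top a)
    have hn' : (n * w) ^ p ∈ commutator G := by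
      refine (QuotientGroup.eq_one_iff _).1 ?_
      rw [QuotientGroup.mk_pow, QuotientGroup.mk_mul, (QuotientGroup.eq_one_iff (N := commutator G) n).2 hn, one_mul]
      obtain ⟨i, rfl⟩ := Subgroup.mem_zpowers_iff.1 hw
      rw [← QuotientGroup.mk_pow, ← zpow_natCast, zpow_comm, zpow_natCast, ← h.ord, pow_orderOf_eq_one, one_zpow,
        QuotientGroup.mk_one]
    exact ⟨2, by rw [pow_two, pow_mul]; exact (hle hn').2⟩
  exact h.not_central (isolated_mem_center hGp h.iso)

theorem ZStarMin.commutator_isSimpleGroup : IsSimpleGroup ↥(commutator G) := by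
  classical
  haveI : Nontrivial ↥(commutator G) := (Subgroup.nontrivial_iff_ne_bot _).2 h.commutator_ne_bot
  refine ⟨fun M0 hM0n => ?_⟩
  rw [or_iff_not_imp_left]
  intro hM0
  obtain ⟨M1, ⟨hM1n, hM10, hM1le⟩, hmin⟩ := (Set.toFinite {X : Subgroup (commutator G) |
    X.Normal ∧ X ≠ ⊥ ∧ X ≤ M0}).exists_minimal ⟨M0, hM0n, hM0, le_rfl⟩
  set M := M1.map (commutator G).subtype with hMdef
  have hMG : M ≤ commutator G := Subgroup.map_subtype_le M1
  have hGM : commutator G ≤ Subgroup.normalizer (M : Set G) := by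
    refine (Subgroup.normal_subgroupOf_iff_le_normalizer hMG).1 ?_
    rw [Subgroup.subgroupOf, Subgroup.comap_map_eq_self_of_injective (commutator G).subtype_injective]
    exact hM1n
  have hM0' : M ≠ ⊥ := fun e => hM10 ((Subgroup.map_eq_bot_iff_of_injective _ (commutator G).subtype_injective).1 e)
  -- a `p`-element of `M` fixed by `x`
  have hdvd : p ∣ Nat.card M := by
    by_contra hnd
    exact hM0' (h.eq_bot_of_normal_coprime hMG hGM ((Cores.coprime_iff_not_dvd_prime Fact.out).2 hnd))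
  obtain ⟨u, hu⟩ := exists_prime_orderOf_dvd_card' p hdvd
  obtain ⟨S, hxS'⟩ := (isPGroup_zpowers_of_orderOf h.pPow).exists_le_sylow
  have hxS : x ∈ (S : Subgroup G) := hxS' (Subgroup.mem_zpowers x)
  obtain ⟨g, hg, hgu⟩ := exists_conj_le_of_relIndex (A := (S : Subgroup G) ⊓ commutator G) (M := commutator G)
    (B := Subgroup.zpowers (u : G)) (S.2.to_le inf_le_left) inf_le_right
    (not_dvd_relIndex_sylow_inf_normal S (commutator G))
    (IsPGroup.of_card (n := 1) (by rw [Nat.card_zpowers, Subgroup.orderOf_coe, hu, pow_one]))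
    (Subgroup.zpowers_le.2 (hMG u.2))
  set v := g * (u : G) * g⁻¹ with hv
  have hvS : v ∈ (S : Subgroup G) := (hgu _ (Subgroup.mem_zpowers _)).1
  have hvM : v ∈ M := (Subgroup.mem_normalizer_iff.1 (hGM hg) u).1 u.2
  have hxv : Commute x v := isolated_commute_of_mem_pGroup h.iso S.2 hxS hvS
  set M' := M.map (MulAut.conj x).toMonoidHom with hM'
  have hGM' : commutator G ≤ Subgroup.normalizer (M' : Set G) := by
    intro a ha
    refine mem_normalizer_of_conj_mem ?_
    rintro _ ⟨m, hm, rfl⟩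
    refine ⟨x⁻¹ * a * x * m * (x⁻¹ * a * x)⁻¹, (Subgroup.mem_normalizer_iff.1 (hGM ?_) m).1 hm, ?_⟩
    · simpa using (inferInstance : (commutator G).Normal).conj_mem a ha x⁻¹
    · simp [mul_assoc]
  have hint : M ⊓ M' ≠ ⊥ := by
    intro e
    have : v ∈ M ⊓ M' := ⟨hvM, v, hvM, by simp [hxv.eq]⟩
    rw [e, Subgroup.mem_bot] at this
    have h1 : orderOf v = p := by
      rw [hv, ← MulAut.conj_apply, MulEquiv.orderOf_eq, Subgroup.orderOf_coe, hu]
    rw [this, orderOf_one] at h1
    exact (Fact.out : p.Prime).one_lt.ne h1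
  have hMx : M ≤ M' := by
    have hn : ((M ⊓ M').subgroupOf (commutator G)).Normal :=
      (Subgroup.normal_subgroupOf_iff_le_normalizer (inf_le_left.trans hMG)).2 fun a ha =>
        mem_normalizer_of_conj_mem fun m hm =>
          ⟨(Subgroup.mem_normalizer_iff.1 (hGM ha) m).1 hm.1, (Subgroup.mem_normalizer_iff.1 (hGM' ha) m).1 hm.2⟩
    have hle : (M ⊓ M').subgroupOf (commutator G) ≤ M1 := by
      rintro ⟨a, ha⟩ ⟨⟨b, hb, hba⟩, -⟩
      have : b = ⟨a, ha⟩ := Subtype.ext hba
      exact this ▸ hb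
    have h0 : (M ⊓ M').subgroupOf (commutator G) ≠ ⊥ := fun e => hint (by
      rw [← Subgroup.map_subgroupOf_eq_of_le (inf_le_left.trans hMG : M ⊓ M' ≤ _), e, Subgroup.map_bot])
    have := Subgroup.map_mono (f := (commutator G).subtype) (hmin ⟨hn, h0, hle.trans hM1le⟩ hle)
    rw [Subgroup.map_subgroupOf_eq_of_le (inf_le_left.trans hMG : M ⊓ M' ≤ _)] at this
    exact this.trans inf_le_right
  have hxM : x ∈ Subgroup.normalizer (M : Set G) :=
    Subgroup.mem_normalizer_iff_map_conj_eq.2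
      (Subgroup.eq_of_le_of_card_ge hMx (Subgroup.card_map_of_injective (MulAut.conj x).injective).le).symm
  haveI : M.Normal := Subgroup.normalizer_eq_top_iff.1
    (top_le_iff.1 (h.commutator_sup.ge.trans (sup_le hGM (Subgroup.zpowers_le.2 hxM))))
  have := h.commutator_le hM0'
  rw [eq_top_iff]
  intro a _
  obtain ⟨b, hb, hba⟩ := this a.2
  exact (commutator G).subtype_injective hba ▸ hM1le hb

end Cfsg.Agent.LAE62
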